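import Mathlib

/-!
Groups of commuting involutory operators on a group of odd order: an element inverted or fixed
by each of them.
-/

set_option autoImplicit false
set_option linter.unusedSectionVars false

namespace CfsgLib.OneInvClass

open scoped commutatorElement

variable {G : Type*} [Group G]

/-- A coprime `c` fixed by `x` cannot be a displacement of `x`. -/
theorem eq_one_of_displacement {x d c : G} (hxd : x * d * x⁻¹ = d * c) (hxc : Commute x c)
    (hcop : (orderOf x).Coprime (orderOf c)) : c = 1 := by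
  have h : ∀ i : ℕ, x ^ i * d * (x ^ i)⁻¹ = d * c ^ i := by
    intro i
    induction i with
    | zero => simp
    | succ i ih =>
      calc x ^ (i + 1) * d * (x ^ (i + 1))⁻¹ = x * (x ^ i * d * (x ^ i)⁻¹) * x⁻¹ := by rw [pow_succ']; group
        _ = x * (d * c ^ i) * x⁻¹ := by rw [ih]
        _ = (x * d * x⁻¹) * (x * c ^ i * x⁻¹) := by group
        _ = d * c * c ^ i := by rw [hxd, (hxc.pow_right i).eq, mul_inv_cancel_right]
        _ = _ := by rw [pow_succ', mul_assoc]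
  have h1 := h (orderOf x)
  rw [pow_orderOf_eq_one, inv_one, one_mul, mul_one, eq_comm, mul_eq_left] at h1
  exact orderOf_eq_one_iff.mp (Nat.eq_one_of_dvd_coprimes hcop (orderOf_dvd_of_pow_eq_one h1) dvd_rfl)

theorem coprime_two_odd {G : Type*} [Group G] {S X : Subgroup G} (hS : IsPGroup 2 S)
    (hX : Odd (Nat.card X)) {s x : G} (hs : s ∈ S) (hx : x ∈ X) : (orderOf s).Coprime (orderOf x) := by
  obtain ⟨k, hk⟩ := hS ⟨s, hs⟩
  have h1 : orderOf s ∣ 2 ^ k := orderOf_dvd_of_pow_eq_one (congrArg Subtype.val hk)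
  have h2 : orderOf x ∣ Nat.card X := by
    rw [show orderOf x = orderOf (⟨x, hx⟩ : X) from (Subgroup.orderOf_mk x hx).symm]
    exact orderOf_dvd_natCard _
  exact Nat.Coprime.coprime_dvd_left h1 (Nat.Coprime.coprime_dvd_right h2
    ((Nat.coprime_two_left.mpr hX).pow_left k))

/-- In a group of odd order only `1` squares to `1`. -/
theorem eq_one_of_sq_eq_one {X : Subgroup G} [Finite G] (hX : Odd (Nat.card X)) {x : G} (hx : x ∈ X)
    (h : x * x = 1) : x = 1 := by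
  have h1 : orderOf x ∣ 2 := orderOf_dvd_of_pow_eq_one (by rw [sq, h])
  have h2 : orderOf x ∣ Nat.card X := by
    rw [show orderOf x = orderOf (⟨x, hx⟩ : X) from (Subgroup.orderOf_mk x hx).symm]
    exact orderOf_dvd_natCard _
  exact orderOf_eq_one_iff.mp (Nat.eq_one_of_dvd_coprimes (Nat.coprime_two_left.mpr hX) h1 h2)

/-- In a group of odd order, membership of `x * x` in a subgroup gives membership of `x`. -/
theorem mem_of_sq_mem {X K : Subgroup G} [Finite G] (hX : Odd (Nat.card X)) {x : G} (hx : x ∈ X)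
    (h : x * x ∈ K) : x ∈ K := by
  obtain ⟨k, hk⟩ := hX
  have h1 : x ^ (2 * k + 1) = 1 := by
    rw [← hk]
    exact congrArg Subtype.val (pow_card_eq_one' (x := (⟨x, hx⟩ : X)))
  have h2 : x = ((x * x) ^ k)⁻¹ := by
    rw [eq_inv_iff_mul_eq_one, ← sq, ← pow_mul, ← pow_succ', h1]
  rw [h2]; exact inv_mem (pow_mem h k)

variable [Finite G] {S X : Subgroup G} (hS : IsPGroup 2 S) (hX : Odd (Nat.card X))
  (hN : S ≤ Subgroup.normalizer (X : Set G))
  (hX' : ∀ s ∈ S, ∀ x ∈ ⁅X, X⁆, Commute s x)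

include hN in
theorem conj_mem {s x : G} (hs : s ∈ S) (hx : x ∈ X) : s * x * s⁻¹ ∈ X :=
  (Subgroup.mem_normalizer_iff.mp (hN hs) x).mp hx

theorem commutator_self_le : ⁅X, X⁆ ≤ X :=
  Subgroup.commutator_le.mpr fun a ha b hb =>
    mul_mem (mul_mem (mul_mem ha hb) (inv_mem ha)) (inv_mem hb)

include hS hX hX' in
/-- Being fixed modulo `[X, X]` implies being fixed. -/
theorem commute_of_congr {s x : G} (hs : s ∈ S) (h : x⁻¹ * (s * x * s⁻¹) ∈ ⁅X, X⁆) : Commute s x := by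
  have hc : x⁻¹ * (s * x * s⁻¹) = 1 :=
    eq_one_of_displacement (x := s) (d := x) (c := x⁻¹ * (s * x * s⁻¹)) (by group) (hX' s hs _ h)
      (coprime_two_odd hS hX hs (commutator_self_le h))
  rw [inv_mul_eq_one, eq_comm, mul_inv_eq_iff_eq_mul] at hc
  exact hc

include hX hN hX' in
/-- Elements inverted, respectively fixed, by the same element commute. -/
theorem commute_of_inverted {s z w : G} (hs : s ∈ S) (hz : z ∈ X) (hw : w ∈ X)
    (hsz : s * z * s⁻¹ = z⁻¹) (hsw : Commute s w) : Commute z w := by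
  set c := ⁅z, w⁆ with hc
  have hcX : c ∈ ⁅X, X⁆ := Subgroup.commutator_mem_commutator hz hw
  have h1 : c = ⁅z⁻¹, w⁆ := by
    have h2 : s * c * s⁻¹ = ⁅s * z * s⁻¹, s * w * s⁻¹⁆ := conjugate_commutatorElement z w s
    rw [hsz, (hX' s hs c hcX).eq, mul_inv_cancel_right, hsw.eq, mul_inv_cancel_right] at h2
    exact h2
  have h3 : z * c * z⁻¹ = c⁻¹ := by
    nth_rewrite 1 [h1]
    rw [hc, commutatorElement_inv, commutatorElement_def, commutatorElement_def]
    group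
  have h4 : Commute (z * z) c := by
    have h : z * (z * c * z⁻¹) * z⁻¹ = c := by
      rw [h3, show z * c⁻¹ * z⁻¹ = (z * c * z⁻¹)⁻¹ by group, h3, inv_inv]
    show z * z * c = c * (z * z)
    calc z * z * c = z * (z * c * z⁻¹) * z⁻¹ * (z * z) := by group
      _ = c * (z * z) := by rw [h]
  have h5 : z ∈ Subgroup.centralizer {c} := mem_of_sq_mem hX hz
    (Subgroup.mem_centralizer_singleton_iff.mpr h4.eq)
  rw [Subgroup.mem_centralizer_singleton_iff] at h5
  rw [h5, mul_inv_cancel_right] at h3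
  have h6 : c = 1 := eq_one_of_sq_eq_one hX (commutator_self_le hcX) (mul_eq_one_iff_eq_inv.mpr h3)
  exact commutatorElement_eq_one_iff_mul_comm.mp h6

variable (hsq : ∀ s ∈ S, ∀ x ∈ X, Commute (s * s) x)
  (hcm : ∀ s ∈ S, ∀ t ∈ S, ∀ x ∈ X, Commute ⁅s, t⁆ x)

include hS hX hN hX' hsq hcm in
/-- An element of prime order fixed or inverted by each of the operators, not fixed by all. -/
theorem exists_eigen (hne : ¬ ∀ s ∈ S, ∀ x ∈ X, Commute s x) :
    ∃ (z : G) (r : ℕ), r.Prime ∧ Odd r ∧ z ∈ X ∧ z ≠ 1 ∧ z ^ r = 1 ∧ (∃ a ∈ S, a * z * a⁻¹ = z⁻¹) ∧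
      ∀ s ∈ S, s * z * s⁻¹ = z ∨ s * z * s⁻¹ = z⁻¹ := by
  classical
  have hact : ∀ s ∈ S, ∀ t ∈ S, ∀ x ∈ X,
      s * (t * x * t⁻¹) * s⁻¹ = t * (s * x * s⁻¹) * t⁻¹ := by
    intro s hs t ht x hx
    have hy : t * (s * x * s⁻¹) * t⁻¹ ∈ X := conj_mem hN ht (conj_mem hN hs hx)
    calc s * (t * x * t⁻¹) * s⁻¹ = ⁅s, t⁆ * (t * (s * x * s⁻¹) * t⁻¹) * ⁅s, t⁆⁻¹ := by
          rw [commutatorElement_def]; group
      _ = _ := by rw [(hcm s hs t ht _ hy).eq, mul_inv_cancel_right]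
  have hinv : ∀ s ∈ S, ∀ x ∈ X, s * (s * x * s⁻¹) * s⁻¹ = x := fun s hs x hx => by
    rw [show s * (s * x * s⁻¹) * s⁻¹ = (s * s) * x * (s * s)⁻¹ by group, (hsq s hs x hx).eq,
      mul_inv_cancel_right]
  have hfix : ∀ s x : G, s ∈ Subgroup.centralizer {x} ↔ s * x * s⁻¹ = x := fun s x => by
    rw [Subgroup.mem_centralizer_singleton_iff, mul_inv_eq_iff_eq_mul]
  push Not at hne
  obtain ⟨s₀, hs₀, x₀, hx₀, hne⟩ := hne
  obtain ⟨B, ⟨x, hx, hB, hBS⟩, hmax⟩ := (Set.toFinite {B : Subgroup G |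
    ∃ x ∈ X, B = S ⊓ Subgroup.centralizer {x} ∧ B ≠ S}).exists_maximal
    ⟨_, x₀, hx₀, rfl, fun h => hne (Subgroup.mem_centralizer_singleton_iff.mp (h.ge hs₀).2)⟩
  obtain ⟨a, ha, haB⟩ : ∃ a ∈ S, a ∉ B := by
    by_contra hh; push Not at hh
    exact hBS (le_antisymm (hB.le.trans inf_le_left) hh)
  have hBmax : ∀ w ∈ X, B ≤ Subgroup.centralizer {w} → ∀ b ∈ S, b * w * b⁻¹ = w → b ∉ B →
      ∀ c ∈ S, c * w * c⁻¹ = w := by
    intro w hw hBw b hb hbw hbB c hc
    by_contra hcw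
    have hmem : S ⊓ Subgroup.centralizer {w} ∈ {B : Subgroup G |
        ∃ x ∈ X, B = S ⊓ Subgroup.centralizer {x} ∧ B ≠ S} :=
      ⟨w, hw, rfl, fun h => hcw ((hfix c w).mp (h.ge hc).2)⟩
    exact hbB (hmax hmem (le_inf (hB.le.trans inf_le_left) hBw) ⟨hb, (hfix b w).mpr hbw⟩)
  have hax : a * x * a⁻¹ ≠ x := fun h => haB (hB ▸ ⟨ha, (hfix a x).mpr h⟩)
  set w := x⁻¹ * (a * x * a⁻¹) with hw
  have hwX : w ∈ X := mul_mem (inv_mem hx) (conj_mem hN ha hx)
  have haw : a * w * a⁻¹ = w⁻¹ := by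
    rw [hw, show a * (x⁻¹ * (a * x * a⁻¹)) * a⁻¹ = (a * x * a⁻¹)⁻¹ * (a * (a * x * a⁻¹) * a⁻¹) by group,
      hinv a ha x hx]
    group
  have hw1 : w ≠ 1 := fun h => hax (inv_mul_eq_one.mp (hw ▸ h)).symm
  have hBw : B ≤ Subgroup.centralizer {w} := fun b hb => by
    rw [hB] at hb
    have h1 := (hfix b x).mp hb.2
    rw [hfix, hw]
    calc b * (x⁻¹ * (a * x * a⁻¹)) * b⁻¹ = (b * x * b⁻¹)⁻¹ * (b * (a * x * a⁻¹) * b⁻¹) := by group
      _ = _ := by rw [hact b hb.1 a ha x hx, h1]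
  have haw' : a⁻¹ * w * a = w⁻¹ := by
    have h := congrArg (fun y => a⁻¹ * y⁻¹ * a) haw
    rw [inv_inv] at h
    rw [← h]; group
  have hall : ∀ b ∈ S, b * w * b⁻¹ = w ∨ b * w * b⁻¹ = w⁻¹ := by
    intro b hb
    by_cases hbB : b ∈ B
    · exact Or.inl ((hfix b w).mp (hBw hbB))
    right
    set w' := b * w * b⁻¹ with hw'
    have hw'X : w' ∈ X := conj_mem hN hb hwX
    set u := w * w' with hu
    have huX : u ∈ X := mul_mem hwX hw'X
    have hBu : B ≤ Subgroup.centralizer {u} := fun c hc => by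
      have hcS : c ∈ S := (hB.le hc).1
      have h1 := (hfix c w).mp (hBw hc)
      rw [hfix, hu, hw']
      calc c * (w * (b * w * b⁻¹)) * c⁻¹ = (c * w * c⁻¹) * (c * (b * w * b⁻¹) * c⁻¹) := by group
        _ = _ := by rw [hact c hcS b hb w hwX, h1]
    have hbu : b * u * b⁻¹ = u := by
      have h1 : b * u * b⁻¹ = w' * w := by
        rw [hu, show b * (w * w') * b⁻¹ = (b * w * b⁻¹) * (b * w' * b⁻¹) by group, hw', hinv b hb w hwX]
      have h2 : u⁻¹ * (b * u * b⁻¹) ∈ ⁅X, X⁆ := by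
        rw [h1, hu, show (w * w')⁻¹ * (w' * w) = ⁅w'⁻¹, w⁻¹⁆ by rw [commutatorElement_def]; group]
        exact Subgroup.commutator_mem_commutator (inv_mem hw'X) (inv_mem hwX)
      rw [mul_inv_eq_iff_eq_mul]
      exact (commute_of_congr hS hX hX' hb h2).eq
    have hau : a * u * a⁻¹ = u := hBmax u huX hBu b hb hbu hbB a ha
    have haw2 : a * w' * a⁻¹ = w'⁻¹ := by
      rw [hw', hact a ha b hb w hwX, haw]; group
    have hu2 : u ∈ ⁅X, X⁆ := by
      refine mem_of_sq_mem hX huX ?_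
      have h1 : u = w⁻¹ * w'⁻¹ := by
        rw [← hau, hu, show a * (w * w') * a⁻¹ = (a * w * a⁻¹) * (a * w' * a⁻¹) by group, haw, haw2]
      nth_rewrite 2 [h1]
      rw [hu, show w * w' * (w⁻¹ * w'⁻¹) = ⁅w, w'⁆ by rw [commutatorElement_def]; group]
      exact Subgroup.commutator_mem_commutator hwX hw'X
    have hab : Commute (a * b) w := by
      refine commute_of_congr hS hX hX' (mul_mem ha hb) ?_
      rw [show a * b * w * (a * b)⁻¹ = a * w' * a⁻¹ by rw [hw']; group,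
        show w' = w⁻¹ * u by rw [hu]; group,
        show a * (w⁻¹ * u) * a⁻¹ = (a * w * a⁻¹)⁻¹ * (a * u * a⁻¹) by group, haw, hau, inv_inv,
        inv_mul_cancel_left]
      exact hu2
    rw [hw', show b * w * b⁻¹ = a⁻¹ * ((a * b) * w * (a * b)⁻¹) * a by group, hab.eq, mul_inv_cancel_right]
    exact haw'
  obtain ⟨r, hr, hrw⟩ := Nat.exists_prime_and_dvd (mt orderOf_eq_one_iff.1 hw1)
  obtain ⟨m, hm⟩ := hrw
  have hwc : orderOf w ∣ Nat.card X := by
    rw [show orderOf w = orderOf (⟨w, hwX⟩ : X) from (Subgroup.orderOf_mk w hwX).symm]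
    exact orderOf_dvd_natCard _
  have hm0 : 0 < m := by
    rcases Nat.eq_zero_or_pos m with rfl | h
    · exact absurd (hm.trans (mul_zero r)) (orderOf_pos w).ne'
    · exact h
  have hz1 : w ^ m ≠ 1 := fun h => by
    have h1 := Nat.le_of_dvd hm0 (orderOf_dvd_of_pow_eq_one h)
    rw [hm] at h1
    have := hr.two_le
    nlinarith
  refine ⟨w ^ m, r, hr, hX.of_dvd_nat ((Dvd.intro m hm.symm).trans hwc), pow_mem hwX m, hz1, ?_,
    ⟨a, ha, by rw [← conj_pow, haw, inv_pow]⟩, fun s hs => ?_⟩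
  · rw [← pow_mul, mul_comm, ← hm, pow_orderOf_eq_one]
  · rcases hall s hs with h | h
    · exact Or.inl (by rw [← conj_pow, h])
    · exact Or.inr (by rw [← conj_pow, h, inv_pow])

end CfsgLib.OneInvClass
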