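import Cfsg.Agent.Lib.OneInvClass.Quad
import Cfsg.Agent.Lib.OneInvClass.Eigen

/-!
The quadratic datum attached to a minimal non-centralised subgroup of a 2-group.
-/

set_option autoImplicit false
set_option linter.unusedSectionVars false

namespace CfsgLib.OneInvClass

open scoped commutatorElement

variable {G : Type*} [Group G] [Finite G]

/-- A minimal subgroup not centralised by `X`: all its squares and commutators square to `1`. -/
theorem exists_minimal_moved {T M X : Subgroup G} (hT : IsPGroup 2 T) (hX : Odd (Nat.card X))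
    (hXM : X ≤ M) (hMT : M ≤ Subgroup.normalizer (T : Set G))
    (hMX : M ≤ Subgroup.normalizer (X : Set G)) (hne : ¬ X ≤ Subgroup.centralizer (T : Set G)) :
    ∃ D : Subgroup G, D ≤ T ∧ M ≤ Subgroup.normalizer (D : Set G) ∧
      ¬ X ≤ Subgroup.centralizer (D : Set G) ∧ (∀ d ∈ D, (d * d) ^ 2 = 1) ∧
      (∀ a ∈ D, ∀ b ∈ D, ⁅a, b⁆ ^ 2 = 1) := by
  classical
  obtain ⟨D, ⟨hDT, hMD, hDX⟩, hmin⟩ := (Set.toFinite {D : Subgroup G | D ≤ T ∧
    M ≤ Subgroup.normalizer (D : Set G) ∧ ¬ X ≤ Subgroup.centralizer (D : Set G)}).exists_minimal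
    ⟨T, le_rfl, hMT, hne⟩
  have hconjD : ∀ m ∈ M, ∀ d ∈ D, m * d * m⁻¹ ∈ D := fun m hm d hd =>
    (Subgroup.mem_normalizer_iff.mp (hMD hm) d).mp hd
  have hconjX : ∀ m ∈ M, ∀ x ∈ X, m * x * m⁻¹ ∈ X := fun m hm x hx =>
    (Subgroup.mem_normalizer_iff.mp (hMX hm) x).mp hx
  -- proper invariant subgroups are centralised
  have hprop : ∀ K : Subgroup G, K ≤ D → K ≠ D → (∀ m ∈ M, ∀ k ∈ K, m * k * m⁻¹ ∈ K) →
      ∀ x ∈ X, ∀ k ∈ K, Commute x k := by
    intro K hKD hK hMK x hx k hk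
    have hMn : M ≤ Subgroup.normalizer (K : Set G) := fun m hm => Subgroup.mem_normalizer_iff.mpr fun k =>
      ⟨hMK m hm k, fun h => by simpa [mul_assoc] using hMK m⁻¹ (inv_mem hm) _ h⟩
    by_contra hxk
    have hmem : K ∈ {D : Subgroup G | D ≤ T ∧ M ≤ Subgroup.normalizer (D : Set G) ∧
        ¬ X ≤ Subgroup.centralizer (D : Set G)} :=
      ⟨hKD.trans hDT, hMn, fun h => hxk (Subgroup.mem_centralizer_iff.mp (h hx) k hk).symm⟩
    exact hK (le_antisymm hKD (hmin hmem hKD))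
  have hcop : ∀ x ∈ X, ∀ d ∈ D, (orderOf x).Coprime (orderOf d) := fun x hx d hd =>
    (coprime_two_odd hT hX (hDT hd) hx).symm
  -- `D` is generated by the displacements
  set D1 := Subgroup.closure {c : G | ∃ x ∈ X, ∃ d ∈ D, c = d⁻¹ * (x * d * x⁻¹)} with hD1
  have hgen : ∀ x ∈ X, ∀ d ∈ D, d⁻¹ * (x * d * x⁻¹) ∈ D := fun x hx d hd =>
    mul_mem (inv_mem hd) (hconjD x (hXM hx) d hd)
  have hD1le : D1 ≤ D := (Subgroup.closure_le _).mpr fun c ⟨x, hx, d, hd, hc⟩ => hc ▸ hgen x hx d hd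
  have hD1eq : D1 = D := by
    by_contra h
    refine hDX fun x hx => Subgroup.mem_centralizer_iff.mpr fun d hd => ?_
    have hM1 : ∀ m ∈ M, ∀ k ∈ D1, m * k * m⁻¹ ∈ D1 := by
      intro m hm k hk
      refine (show D1 ≤ D1.comap (MulAut.conj m).toMonoidHom from (Subgroup.closure_le _).mpr ?_) hk
      rintro c ⟨y, hy, e, he, rfl⟩
      refine Subgroup.subset_closure ⟨m * y * m⁻¹, hconjX m hm y hy, m * e * m⁻¹, hconjD m hm e he, ?_⟩
      show m * (e⁻¹ * (y * e * y⁻¹)) * m⁻¹ = _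
      group
    have hfix := hprop D1 hD1le h hM1 x hx _ (Subgroup.subset_closure ⟨x, hx, d, hd, rfl⟩)
    have hc := eq_one_of_displacement (x := x) (d := d) (c := d⁻¹ * (x * d * x⁻¹)) (by group) hfix
      (hcop x hx _ (hgen x hx d hd))
    rw [inv_mul_eq_one, eq_mul_inv_iff_mul_eq] at hc
    exact hc
  -- squares
  set Q := Subgroup.closure {c : G | ∃ d ∈ D, c = d * d} with hQ
  have hQle : Q ≤ D := (Subgroup.closure_le _).mpr fun c ⟨d, hd, hc⟩ => hc ▸ mul_mem hd hd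
  have hMQ : ∀ m ∈ M, ∀ k ∈ Q, m * k * m⁻¹ ∈ Q := by
    intro m hm k hk
    refine (show Q ≤ Q.comap (MulAut.conj m).toMonoidHom from (Subgroup.closure_le _).mpr ?_) hk
    rintro c ⟨e, he, rfl⟩
    refine Subgroup.subset_closure ⟨m * e * m⁻¹, hconjD m hm e he, ?_⟩
    show m * (e * e) * m⁻¹ = _
    group
  have hQne : Q ≠ D := by
    intro hQD
    have hD0 : D ≠ ⊥ := fun h => hDX (fun x _ => Subgroup.mem_centralizer_iff.mpr fun d hd => by
      rw [h, SetLike.mem_coe, Subgroup.mem_bot] at hd; rw [hd, one_mul, mul_one])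
    obtain ⟨k, hk⟩ := (hT.to_le hDT).exists_card_eq
    have hk0 : k ≠ 0 := fun h => hD0 (Subgroup.card_eq_one.mp (by rw [hk, h, pow_zero]))
    haveI : Fact (Nat.Prime 2) := ⟨Nat.prime_two⟩
    obtain ⟨K, hK⟩ := Sylow.exists_subgroup_card_pow_prime 2 (G := D) (n := k - 1)
      (hk ▸ pow_dvd_pow 2 (Nat.sub_le k 1))
    have hK2 : K.index = 2 := by
      have h := K.card_mul_index
      rw [hK, hk, show 2 ^ k = 2 ^ (k - 1) * 2 by rw [← pow_succ]; congr 1; omega] at h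
      exact Nat.eq_of_mul_eq_mul_left (by positivity) h
    have hle : Q ≤ K.map D.subtype := (Subgroup.closure_le _).mpr fun c ⟨d, hd, hc⟩ =>
      ⟨⟨d, hd⟩ * ⟨d, hd⟩, Subgroup.mul_self_mem_of_index_two hK2 _, hc.symm⟩
    have h2 : K = ⊤ := top_le_iff.mp fun d _ => by
      obtain ⟨e, he, hed⟩ := hle (hQD.symm ▸ d.2 : (d : G) ∈ Q)
      rwa [← Subtype.ext (a1 := e) (a2 := d) hed]
    rw [h2, Subgroup.index_top] at hK2
    exact absurd hK2 (by norm_num)
  have hQX : ∀ x ∈ X, ∀ f ∈ Q, Commute x f := hprop Q hQle hQne hMQ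
  have hQnorm : ∀ d ∈ D, ∀ f ∈ Q, d * f * d⁻¹ ∈ Q := by
    intro d hd f hf
    refine (show Q ≤ Q.comap (MulAut.conj d).toMonoidHom from (Subgroup.closure_le _).mpr ?_) hf
    rintro c ⟨e, he, rfl⟩
    refine Subgroup.subset_closure ⟨d * e * d⁻¹, mul_mem (mul_mem hd he) (inv_mem hd), ?_⟩
    show d * (e * e) * d⁻¹ = _
    group
  -- squares are central
  have hcen : ∀ d ∈ D, ∀ f ∈ Q, Commute d f := by
    intro d hd f hf
    have hle : D1 ≤ Subgroup.centralizer (Q : Set G) := by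
      refine (Subgroup.closure_le _).mpr ?_
      rintro c ⟨x, hx, e, he, rfl⟩
      refine Subgroup.mem_centralizer_iff.mpr fun f hf => ?_
      have h1 := (hQX x hx _ (hQnorm e he f hf)).eq
      have h2 := (hQX x hx f hf).eq
      symm
      calc e⁻¹ * (x * e * x⁻¹) * f = e⁻¹ * (x * e * (f * x⁻¹)) := by
            rw [show e⁻¹ * (x * e * x⁻¹) * f = e⁻¹ * (x * e * (x⁻¹ * f)) by group,
              show x⁻¹ * f = f * x⁻¹ from ((hQX x hx f hf).inv_left).eq]
        _ = e⁻¹ * (x * (e * f * e⁻¹)) * e * x⁻¹ := by group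
        _ = e⁻¹ * ((e * f * e⁻¹) * x) * e * x⁻¹ := by rw [h1]
        _ = f * (e⁻¹ * (x * e * x⁻¹)) := by group
    exact (Subgroup.mem_centralizer_iff.mp (hle (hD1eq.symm ▸ hd)) f hf).symm
  have hcomm : ∀ a ∈ D, ∀ b ∈ D, ⁅a, b⁆ ∈ Q := by
    intro a ha b hb
    have h : ⁅a, b⁆ = (a * b) * (a * b) * ((b⁻¹ * a⁻¹ * b) * (b⁻¹ * a⁻¹ * b)) * (b⁻¹ * b⁻¹) := by
      rw [commutatorElement_def]; group
    rw [h]
    refine mul_mem (mul_mem (Subgroup.subset_closure ⟨_, mul_mem ha hb, rfl⟩)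
      (Subgroup.subset_closure ⟨_, mul_mem (mul_mem (inv_mem hb) (inv_mem ha)) hb, rfl⟩))
      (Subgroup.subset_closure ⟨_, inv_mem hb, rfl⟩)
  have hc2 : ∀ a ∈ D, ∀ b ∈ D, ⁅a, b⁆ ^ 2 = 1 := by
    intro a ha b hb
    have h1 : b * b * a = a * (b * b) := (hcen a ha _ (Subgroup.subset_closure ⟨b, hb, rfl⟩)).eq.symm
    have h2 : b * ⁅a, b⁆ * b⁻¹ = ⁅a, b⁆ := by
      rw [(hcen b hb _ (hcomm a ha b hb)).eq, mul_inv_cancel_right]
    have h3 : ⁅a, b * b⁆ = ⁅a, b⁆ * (b * ⁅a, b⁆ * b⁻¹) := by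
      rw [commutatorElement_def, commutatorElement_def]; group
    rw [h2, commutatorElement_def, ← h1, mul_inv_cancel_right, mul_inv_cancel, ← sq] at h3
    exact h3.symm
  refine ⟨D, hDT, hMD, hDX, fun d hd => ?_, hc2⟩
  -- exponent four
  have hmul : ∀ a ∈ D, ∀ b ∈ D, (a * b * (a * b)) ^ 2 = (a * a) ^ 2 * (b * b) ^ 2 := by
    intro a ha b hb
    have hA : a * a ∈ Q := Subgroup.subset_closure ⟨a, ha, rfl⟩
    have hB : b * b ∈ Q := Subgroup.subset_closure ⟨b, hb, rfl⟩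
    have hC : ⁅b, a⁆ ∈ Q := hcomm b hb a ha
    have h1 : a * b * (a * b) = ⁅b, a⁆ * ((a * a) * (b * b)) := by
      calc a * b * (a * b) = a * (⁅b, a⁆ * a * b) * b := by rw [commutatorElement_def]; group
        _ = (a * ⁅b, a⁆) * (a * b * b) := by group
        _ = (⁅b, a⁆ * a) * (a * b * b) := by rw [(hcen a ha _ hC).eq]
        _ = _ := by group
    have k1 : Commute ⁅b, a⁆ (a * a * (b * b)) := (hcen _ (hQle hC) _ (mul_mem hA hB))
    rw [h1, k1.mul_pow, hc2 b hb a ha, one_mul, (hcen _ (hQle hA) _ hB).mul_pow]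
  have hker : ∀ c ∈ D1, (c * c) ^ 2 = 1 := by
    intro c hc
    induction hc using Subgroup.closure_induction with
    | mem c hc =>
      obtain ⟨x, hx, e, he, rfl⟩ := hc
      rw [hmul _ (inv_mem he) _ (hconjD x (hXM hx) e he),
        show x * e * x⁻¹ * (x * e * x⁻¹) = x * (e * e) * x⁻¹ by group,
        (hQX x hx _ (Subgroup.subset_closure ⟨e, he, rfl⟩)).eq, mul_inv_cancel_right,
        show e⁻¹ * e⁻¹ = (e * e)⁻¹ by group, inv_pow, inv_mul_cancel]
    | one => simp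
    | mul a b ha hb iha ihb => rw [hmul a (hD1le ha) b (hD1le hb), iha, ihb, one_mul]
    | inv a ha iha => rw [show a⁻¹ * a⁻¹ = (a * a)⁻¹ by group, inv_pow, iha, inv_one]
  exact hker d (hD1eq.symm ▸ hd)

/-- The bound for a family of separated commuting elements acting on `D`. -/
theorem family_bound {V D : Subgroup G} (hV : ∀ x, x ∈ V ↔ x ^ 2 = 1)
    (hVD : ∀ d ∈ D, ∀ v ∈ V, Commute d v) (hsq : ∀ d ∈ D, (d * d) ^ 2 = 1)
    (hcl : ∀ a ∈ D, ∀ b ∈ D, ⁅a, b⁆ ^ 2 = 1)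
    {ι : Type*} [Fintype ι] (z : ι → G) {r : ℕ} (hr : r.Prime) (hr2 : Odd r) (hzr : ∀ i, z i ^ r = 1)
    (hzD : ∀ i, z i ∈ Subgroup.normalizer (D : Set G)) (hzV : ∀ i, ∀ v ∈ V, Commute (z i) v)
    (hnt : ∀ i, ∃ d ∈ D, z i * d * (z i)⁻¹ ≠ d)
    (hcommz : ∀ i j, Commute (z i) (z j))
    (hsep : ∀ i j, i ≠ j → ∃ t ∈ Subgroup.normalizer (D : Set G), (∀ v ∈ V, Commute t v) ∧
      ((t * z i * t⁻¹ = (z i)⁻¹ ∧ Commute t (z j)) ∨ (t * z j * t⁻¹ = (z j)⁻¹ ∧ Commute t (z i)))) :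
    2 ^ Fintype.card ι ≤ Nat.card V := by
  classical
  have hVc : ∀ a ∈ V, ∀ b ∈ V, Commute a b := fun a ha b hb => by
    have h : ∀ u ∈ V, u = u⁻¹ := fun u hu => eq_inv_of_mul_eq_one_left ((sq u).symm.trans ((hV u).mp hu))
    show a * b = b * a
    rw [h (a * b) (mul_mem ha hb), mul_inv_rev, ← h a ha, ← h b hb]
  letI : CommGroup V :=
    { (inferInstance : Group V) with mul_comm := fun a b => Subtype.ext (hVc a a.2 b b.2).eq }
  set N : Subgroup D := V.subgroupOf D with hN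
  haveI hNn : N.Normal := ⟨fun v hv d => by
    rw [hN, Subgroup.mem_subgroupOf] at hv ⊢
    push_cast
    rwa [(hVD d d.2 v hv).eq, mul_inv_cancel_right]⟩
  letI : CommGroup (D ⧸ N) :=
    { (inferInstance : Group (D ⧸ N)) with
      mul_comm := fun a b => by
        obtain ⟨a, rfl⟩ := QuotientGroup.mk'_surjective N a
        obtain ⟨b, rfl⟩ := QuotientGroup.mk'_surjective N b
        rw [← map_mul, ← map_mul, ← mul_inv_eq_one, ← map_inv, ← map_mul, ← MonoidHom.mem_ker,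
          QuotientGroup.ker_mk', hN, Subgroup.mem_subgroupOf, hV]
        push_cast
        rw [show (a : G) * b * ((b : G) * (a : G))⁻¹ = ⁅(a : G), (b : G)⁆ by rw [commutatorElement_def]; group]
        exact hcl a a.2 b b.2 }
  -- the quadratic map
  let q₀ : D → Additive V := fun d => Additive.ofMul ⟨d * d, (hV _).mpr (hsq d d.2)⟩
  have hq₀ : ∀ a b : D, (QuotientGroup.leftRel N) a b → q₀ a = q₀ b := by
    intro a b hab
    rw [QuotientGroup.leftRel_apply, hN, Subgroup.mem_subgroupOf] at hab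
    push_cast at hab
    refine congrArg Additive.ofMul (Subtype.ext ?_)
    show (a : G) * a = b * b
    set v := (a : G)⁻¹ * b with hv
    have hb : (b : G) = a * v := by rw [hv]; group
    rw [hb, show (a : G) * v * (a * v) = a * (v * a) * v by group, ← (hVD a a.2 v hab).eq,
      show (a : G) * (a * v) * v = a * a * (v * v) by group, ← sq v, (hV v).mp hab, mul_one]
  let q : Additive (D ⧸ N) → Additive V := fun x => Quotient.liftOn' x.toMul q₀ hq₀
  -- the acting group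
  let Γ : Subgroup G := Subgroup.normalizer (D : Set G) ⊓ Subgroup.centralizer (V : Set G)
  have hΓD : ∀ g : Γ, ∀ d : D, (g : G) * d * (g : G)⁻¹ ∈ D := fun g d =>
    (Subgroup.mem_normalizer_iff.mp g.2.1 d).mp d.2
  let f : Γ → (D →* D) := fun g =>
    { toFun := fun d => ⟨g * d * (g : G)⁻¹, hΓD g d⟩
      map_one' := Subtype.ext (by simp)
      map_mul' := fun a b => Subtype.ext (by simp [mul_assoc]) }
  have hf : ∀ g : Γ, N ≤ N.comap (f g) := fun g d hd => by
    rw [Subgroup.mem_comap, hN, Subgroup.mem_subgroupOf] at *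
    show (g : G) * d * (g : G)⁻¹ ∈ V
    rwa [← Subgroup.mem_centralizer_iff.mp g.2.2 _ hd, mul_inv_cancel_right]
  let ρ : Γ →* Module.End ℤ (Additive (D ⧸ N)) :=
    { toFun := fun g => (MonoidHom.toAdditive (QuotientGroup.map N N (f g) (hf g))).toIntLinearMap
      map_one' := by
        refine LinearMap.ext fun x => ?_
        obtain ⟨x, rfl⟩ : ∃ y, Additive.ofMul y = x := ⟨_, rfl⟩
        obtain ⟨d, rfl⟩ := QuotientGroup.mk'_surjective N x
        show Additive.ofMul (QuotientGroup.mk' N (f 1 d)) = Additive.ofMul (QuotientGroup.mk' N d)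
        rw [show f 1 d = d from Subtype.ext (show ((1 : Γ) : G) * d * ((1 : Γ) : G)⁻¹ = d by simp)]
      map_mul' := fun g h => by
        refine LinearMap.ext fun x => ?_
        obtain ⟨x, rfl⟩ : ∃ y, Additive.ofMul y = x := ⟨_, rfl⟩
        obtain ⟨d, rfl⟩ := QuotientGroup.mk'_surjective N x
        show Additive.ofMul (QuotientGroup.mk' N (f (g * h) d)) = Additive.ofMul (QuotientGroup.mk' N (f g (f h d)))
        rw [show f (g * h) d = f g (f h d) from Subtype.ext (by simp [f, mul_assoc])] }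
  have hρ : ∀ (g : Γ) (d : D), ρ g (Additive.ofMul (QuotientGroup.mk' N d)) =
      Additive.ofMul (QuotientGroup.mk' N (f g d)) := fun g d => rfl
  have hq : ∀ d : D, q (Additive.ofMul (QuotientGroup.mk' N d)) = q₀ d := fun d => rfl
  have hdata : Datum ρ q := by
    refine ⟨fun x => ?_, fun u => ?_, fun x y w => ?_, fun x hx => ?_, fun g x => ?_⟩
    · obtain ⟨x, rfl⟩ : ∃ y, Additive.ofMul y = x := ⟨_, rfl⟩
      obtain ⟨d, rfl⟩ := QuotientGroup.mk'_surjective N x
      rw [← ofMul_mul, ← map_mul, ofMul_eq_zero, ← MonoidHom.mem_ker, QuotientGroup.ker_mk', hN,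
        Subgroup.mem_subgroupOf, hV]
      push_cast
      exact hsq d d.2
    · obtain ⟨u, rfl⟩ : ∃ y, Additive.ofMul y = u := ⟨_, rfl⟩
      rw [← ofMul_mul, ofMul_eq_zero]
      exact Subtype.ext ((sq (u : G)).symm.trans ((hV _).mp u.2))
    · obtain ⟨x, rfl⟩ : ∃ y, Additive.ofMul y = x := ⟨_, rfl⟩
      obtain ⟨y, rfl⟩ : ∃ z, Additive.ofMul z = y := ⟨_, rfl⟩
      obtain ⟨w, rfl⟩ : ∃ z, Additive.ofMul z = w := ⟨_, rfl⟩
      obtain ⟨a, rfl⟩ := QuotientGroup.mk'_surjective N x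
      obtain ⟨b, rfl⟩ := QuotientGroup.mk'_surjective N y
      obtain ⟨c, rfl⟩ := QuotientGroup.mk'_surjective N w
      let κ : D → D → Additive V := fun a b => Additive.ofMul
        ⟨⁅(b : G), (a : G)⁆, (hV _).mpr (hcl b b.2 a a.2)⟩
      have hqm : ∀ a b : D, q₀ (a * b) = q₀ a + q₀ b + κ a b := by
        intro a b
        refine congrArg Additive.ofMul (Subtype.ext ?_)
        show ((a * b : D) : G) * (a * b : D) = (a : G) * a * (b * b) * ⁅(b : G), (a : G)⁆
        push_cast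
        have hC : ⁅(b : G), (a : G)⁆ ∈ V := (hV _).mpr (hcl b b.2 a a.2)
        calc (a : G) * b * (a * b) = a * (⁅(b : G), (a : G)⁆ * a * b) * b := by
              rw [commutatorElement_def]; group
          _ = (a * ⁅(b : G), (a : G)⁆) * (a * b * b) := by group
          _ = (⁅(b : G), (a : G)⁆ * a) * (a * b * b) := by rw [(hVD a a.2 _ hC).eq]
          _ = ⁅(b : G), (a : G)⁆ * ((a * a) * (b * b)) := by group
          _ = _ := (((hVD _ (mul_mem (mul_mem a.2 a.2) (mul_mem b.2 b.2)) _ hC)).eq).symm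
      have hκ : ∀ a b c : D, κ (a * b) c = κ a c + κ b c := by
        intro a b c
        refine congrArg Additive.ofMul (Subtype.ext ?_)
        show ⁅(c : G), ((a * b : D) : G)⁆ = ⁅(c : G), (a : G)⁆ * ⁅(c : G), (b : G)⁆
        push_cast
        have hC : ⁅(c : G), (b : G)⁆ ∈ V := (hV _).mpr (hcl c c.2 b b.2)
        rw [show ⁅(c : G), (a : G) * b⁆ = ⁅(c : G), (a : G)⁆ * ((a : G) * ⁅(c : G), (b : G)⁆ * (a : G)⁻¹) by
          rw [commutatorElement_def, commutatorElement_def, commutatorElement_def]; group,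
          (hVD a a.2 _ hC).eq, mul_inv_cancel_right]
      simp only [← ofMul_mul, ← map_mul, hq]
      rw [hqm (a * b) c, hqm a c, hqm b c, hκ]
      abel
    · obtain ⟨x, rfl⟩ : ∃ y, Additive.ofMul y = x := ⟨_, rfl⟩
      obtain ⟨d, rfl⟩ := QuotientGroup.mk'_surjective N x
      rw [hq, ofMul_eq_zero, Subtype.ext_iff] at hx
      rw [ofMul_eq_zero, ← MonoidHom.mem_ker, QuotientGroup.ker_mk', hN, Subgroup.mem_subgroupOf, hV, sq]
      exact hx
    · obtain ⟨x, rfl⟩ : ∃ y, Additive.ofMul y = x := ⟨_, rfl⟩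
      obtain ⟨d, rfl⟩ := QuotientGroup.mk'_surjective N x
      rw [hρ, hq, hq]
      refine congrArg Additive.ofMul (Subtype.ext ?_)
      show (g : G) * d * (g : G)⁻¹ * ((g : G) * d * (g : G)⁻¹) = d * d
      rw [show (g : G) * d * (g : G)⁻¹ * ((g : G) * d * (g : G)⁻¹) = g * (d * d) * (g : G)⁻¹ by group,
        ← Subgroup.mem_centralizer_iff.mp g.2.2 _ ((hV _).mpr (hsq d d.2)), mul_inv_cancel_right]
  let e : ι → Γ := fun i => ⟨z i, hzD i,
    Subgroup.mem_centralizer_iff.mpr fun v hv => ((hzV i v hv).eq).symm⟩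
  have her : ∀ i, e i ^ r = 1 := fun i => Subtype.ext (hzr i)
  have hcard : Nat.card (Additive V) = Nat.card V := Nat.card_congr Additive.toMul
  rw [← hcard]
  refine hdata.card_le e (fun i => ⟨r, hr2, her i⟩) (fun i hi => ?_) (fun i j hij => ?_)
  · obtain ⟨d, hd, hne⟩ := hnt i
    have h1 := LinearMap.congr_fun hi (Additive.ofMul (QuotientGroup.mk' N ⟨d, hd⟩))
    rw [hρ, Module.End.one_apply, Additive.ofMul.injective.eq_iff, eq_comm, QuotientGroup.mk'_eq_mk'] at h1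
    obtain ⟨v, hv, hdv⟩ := h1
    rw [hN, Subgroup.mem_subgroupOf] at hv
    have h2 : z i * d * (z i)⁻¹ = d * v := (congrArg Subtype.val hdv).symm
    have hc : (orderOf (z i)).Coprime (orderOf (v : G)) :=
      Nat.Coprime.coprime_dvd_left (orderOf_dvd_of_pow_eq_one (hzr i))
        (Nat.Coprime.coprime_dvd_right (orderOf_dvd_of_pow_eq_one ((hV _).mp hv))
          (Nat.coprime_two_right.mpr hr2))
    rw [eq_one_of_displacement h2 (hzV i v hv) hc, mul_one] at h2
    exact hne h2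
  · obtain ⟨t, htD, htV, ht⟩ := hsep i j hij
    let t' : Γ := ⟨t, htD, Subgroup.mem_centralizer_iff.mpr fun v hv => ((htV v hv).eq).symm⟩
    refine LinearMap.ext fun y => ?_
    rw [LinearMap.zero_apply]
    rcases ht with ⟨h1, h2⟩ | ⟨h1, h2⟩
    · exact hdata.pair hr hr2 (her i) (her j) (Subtype.ext (hcommz i j).eq)
        (show t' * e i * t'⁻¹ = (e i)⁻¹ from Subtype.ext h1) (show Commute t' (e j) from Subtype.ext h2.eq) y
    · have hc : Commute (ρ (e i) - 1) (ρ (e j) - 1) :=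
        (((show Commute (e i) (e j) from Subtype.ext (hcommz i j).eq).map ρ).sub_left
          (Commute.one_left _)).sub_right (Commute.one_right _)
      rw [hc.eq]
      exact hdata.pair hr hr2 (her j) (her i) (Subtype.ext (hcommz j i).eq)
        (show t' * e j * t'⁻¹ = (e j)⁻¹ from Subtype.ext h1) (show Commute t' (e i) from Subtype.ext h2.eq) y

end CfsgLib.OneInvClass
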