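import Cfsg.Prelude.Def_Solvable
import Cfsg.Agent.Lib.Basic
import Cfsg.Agent.Lib.Elementary
import Cfsg.Agent.Lib.Coprime
import Cfsg.Agent.Lib.PSolvable
import Cfsg.Agent.Lib.HallSolvable
import Cfsg.Agent.Lib.AbelianTrace
import Cfsg.Agent.Lib.OneInvClass.Module

/-!
Thompson: a solvable group with trivial odd core, one class of involutions and more than one
involution has a normal Sylow 2-subgroup.
-/

set_option autoImplicit false
set_option linter.unusedSectionVars false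
set_option maxHeartbeats 800000

namespace CfsgLib.OneInvClass

open scoped commutatorElement
open Cfsg

variable {G : Type*} [Group G] [Finite G]

theorem commute_conj_iff (g : G) {a b : G} :
    Commute (g * a * g⁻¹) (g * b * g⁻¹) ↔ Commute a b :=
  ⟨fun h => by
    have e : MulAut.conj g (a * b) = MulAut.conj g (b * a) := by
      rw [map_mul, map_mul]; exact h.eq
    exact (MulAut.conj g).injective e,
  fun h => h.map (MulAut.conj g).toMonoidHom⟩

/-- A Sylow subgroup covers a quotient of prime power order. -/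
theorem sylow_sup_normal {A : Type*} [Group A] [Finite A] {p : ℕ} [Fact p.Prime] (P : Sylow p A)
    (N : Subgroup A) [N.Normal] (h : IsPGroup p (A ⧸ N)) : (P : Subgroup A) ⊔ N = ⊤ := by
  obtain ⟨k, hk⟩ := h.exists_card_eq
  have hc : Nat.Coprime ((P : Subgroup A).index) N.index := by
    rw [Subgroup.index_eq_card N, hk]
    exact (((Fact.out : p.Prime).coprime_iff_not_dvd.mpr P.not_dvd_index).symm).pow_right k
  exact Subgroup.index_eq_one.mp (Nat.eq_one_of_dvd_coprimes hc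
    (Subgroup.index_dvd_of_le le_sup_left) (Subgroup.index_dvd_of_le le_sup_right))

/-- The subgroup of involutions. -/
theorem exists_involution_subgroup [Group.IsSolvable G] (hO : pPrimeCore 2 G = ⊥)
    (hconj : ∀ x y : G, x ≠ 1 → x ^ 2 = 1 → y ≠ 1 → y ^ 2 = 1 → IsConj x y)
    (htwo : ∃ x y : G, x ≠ y ∧ x ≠ 1 ∧ x ^ 2 = 1 ∧ y ≠ 1 ∧ y ^ 2 = 1) :
    ∃ (V : Subgroup G) (n : ℕ), V.Normal ∧ 2 ≤ n ∧ Nat.card V = 2 ^ n ∧ (∀ x, x ∈ V ↔ x ^ 2 = 1) ∧
      V ≤ pCore 2 G ∧ ∀ t ∈ pCore 2 G, ∀ v ∈ V, Commute t v := by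
  haveI : Fact (Nat.Prime 2) := ⟨Nat.prime_two⟩
  set T := pCore 2 G with hT
  obtain ⟨x, y, hxy, hx1, hx, hy1, hy⟩ := htwo
  have hT1 : T ≠ ⊥ := by
    intro h
    have h1 := CfsgLib.centralizer_pCore_le (G := G) Nat.prime_two hO
    rw [← hT, h] at h1
    exact hx1 (Subgroup.mem_bot.mp (h1 (Subgroup.mem_centralizer_iff.mpr fun t ht => by
      rw [SetLike.mem_coe, Subgroup.mem_bot] at ht; rw [ht, one_mul, mul_one])))
  obtain ⟨u, huT, hu1, hu⟩ := AbelianTrace.exists_fixed (p := 2) (CfsgLib.isPGroup_pCore 2)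
    (CfsgLib.isPGroup_pCore 2) Subgroup.le_normalizer hT1
  obtain ⟨k, hk⟩ := CfsgLib.isPGroup_pCore (G := G) 2 ⟨u, huT⟩
  obtain ⟨j, -, hj⟩ := (Nat.dvd_prime_pow Nat.prime_two).mp
    (orderOf_dvd_of_pow_eq_one (congrArg Subtype.val hk : u ^ 2 ^ k = 1))
  set ZT := T ⊓ Subgroup.centralizer (T : Set G) with hZT
  have huZ : u ∈ ZT := ⟨huT, Subgroup.mem_centralizer_iff.mpr fun t ht => hu t ht⟩
  have hj0 : j ≠ 0 := fun h => hu1 (orderOf_eq_one_iff.mp (by rw [hj, h, pow_zero]))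
  set u₀ := u ^ 2 ^ (j - 1) with hu₀
  have hu₀1 : u₀ ≠ 1 := fun h => by
    have h1 := orderOf_dvd_of_pow_eq_one h
    rw [hj, Nat.pow_dvd_pow_iff_le_right (le_refl 2)] at h1
    omega
  have hu₀2 : u₀ ^ 2 = 1 := by
    rw [hu₀, ← pow_mul, ← pow_succ, show j - 1 + 1 = j by omega, ← hj, pow_orderOf_eq_one]
  have hinv : ∀ v : G, v ^ 2 = 1 → v ∈ ZT := fun v hv => by
    rcases eq_or_ne v 1 with rfl | hv1
    · exact one_mem _
    obtain ⟨g, hg⟩ := isConj_iff.mp (hconj u₀ v hu₀1 hu₀2 hv1 hv)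
    rw [← hg]
    haveI : ZT.Normal := Subgroup.normal_inf_normal _ _
    exact (inferInstance : ZT.Normal).conj_mem _ (pow_mem huZ _) g
  have hcomm : ∀ a b : G, a ^ 2 = 1 → b ^ 2 = 1 → Commute a b := fun a b ha hb =>
    (Subgroup.mem_centralizer_iff.mp (hinv b hb).2 a (hinv a ha).1)
  let V : Subgroup G :=
    { carrier := {v | v ^ 2 = 1}
      one_mem' := one_pow 2
      mul_mem' := fun {a b} ha hb => by
        show (a * b) ^ 2 = 1
        rw [(hcomm a b ha hb).mul_pow, ha, hb, one_mul]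
      inv_mem' := fun {a} ha => by
        show a⁻¹ ^ 2 = 1
        rw [inv_pow, ha, inv_one] }
  have hVT : V ≤ T := fun v hv => (hinv v hv).1
  obtain ⟨n, hn⟩ := ((CfsgLib.isPGroup_pCore (G := G) 2).to_le hVT).exists_card_eq
  refine ⟨V, n, ⟨fun v hv g => show (g * v * g⁻¹) ^ 2 = 1 by rw [conj_pow, (hv : v ^ 2 = 1)]; group⟩,
    ?_, hn, fun _ => Iff.rfl, hVT, fun t ht v hv => Subgroup.mem_centralizer_iff.mp (hinv v hv).2 t ht⟩
  classical
  have h3 : 3 ≤ Nat.card V := by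
    let f : Fin 3 → V := ![⟨1, one_mem _⟩, ⟨x, hx⟩, ⟨y, hy⟩]
    have hf : Function.Injective f := by
      intro a b h
      have h' := congrArg Subtype.val h
      fin_cases a <;> fin_cases b <;> simp [f, hx1, hy1, hx1.symm, hy1.symm, hxy, hxy.symm] at h' ⊢
    simpa using Nat.card_le_card_of_injective f hf
  rw [hn] at h3
  by_contra h2
  have : 2 ^ n ≤ 2 ^ 1 := Nat.pow_le_pow_right (by norm_num) (by omega)
  omega

/-- The group induced on the involutions has odd order. -/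
theorem odd_index_centralizer [Group.IsSolvable G] {V : Subgroup G} [V.Normal]
    (hV : ∀ x, x ∈ V ↔ x ^ 2 = 1) (hV2 : IsPGroup 2 V) (hV1 : V ≠ ⊥)
    (hconj : ∀ x y : G, x ≠ 1 → x ^ 2 = 1 → y ≠ 1 → y ^ 2 = 1 → IsConj x y) :
    Odd (Subgroup.centralizer (V : Set G)).index := by
  classical
  set C := Subgroup.centralizer (V : Set G) with hC
  by_contra hodd
  rw [Nat.not_odd_iff_even, Subgroup.index_eq_card] at hodd
  haveI : Nontrivial (G ⧸ C) := by
    rw [← Finite.one_lt_card_iff_nontrivial]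
    obtain ⟨k, hk⟩ := hodd
    have : 0 < Nat.card (G ⧸ C) := Nat.card_pos
    omega
  haveI : Group.IsSolvable (G ⧸ C) :=
    Group.isSolvable_of_surjective (f := QuotientGroup.mk' C) (QuotientGroup.mk'_surjective C)
  obtain ⟨Q, hQn, -, hQ1, hQmin⟩ := CfsgLib.exists_minimal_normal (N := (⊤ : Subgroup (G ⧸ C))) top_ne_bot
  haveI := hQn
  obtain ⟨-, r, hr, hQe⟩ := CfsgLib.minimal_normal_elementary hQ1
    (Group.isSolvable_of_isSolvable_injective (f := Q.subtype) Q.subtype_injective) hQmin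
  have hQr : IsPGroup r Q := fun x => ⟨1, Subtype.ext (by simpa using hQe x x.2)⟩
  haveI := Fact.mk hr
  haveI : Fact (Nat.Prime 2) := ⟨Nat.prime_two⟩
  set N := Q.comap (QuotientGroup.mk' C) with hN
  haveI : N.Normal := hQn.comap _
  have hCN : C ≤ N := fun c hc => by
    rw [hN, Subgroup.mem_comap, QuotientGroup.mk'_apply, (QuotientGroup.eq_one_iff c).mpr hc]
    exact one_mem _
  obtain ⟨P⟩ : Nonempty (Sylow r N) := inferInstance
  set R := (P : Subgroup N).map N.subtype with hR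
  have hRN : R ≤ N := Subgroup.map_subtype_le _
  have hsup : C ⊔ R = N := by
    refine le_antisymm (sup_le hCN hRN) fun g hg => ?_
    have hq : IsPGroup r (N ⧸ C.subgroupOf N) := by
      intro y
      obtain ⟨y, rfl⟩ := QuotientGroup.mk'_surjective _ y
      obtain ⟨k, hk⟩ := hQr ⟨QuotientGroup.mk' C y, y.2⟩
      refine ⟨k, ?_⟩
      rw [← map_pow, ← MonoidHom.mem_ker, QuotientGroup.ker_mk', Subgroup.mem_subgroupOf,
        ← QuotientGroup.eq_one_iff]
      push_cast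
      exact congrArg Subtype.val hk
    have h := sylow_sup_normal P (C.subgroupOf N) hq
    have h2 : (⟨g, hg⟩ : N) ∈ (P : Subgroup N) ⊔ C.subgroupOf N := h ▸ Subgroup.mem_top _
    obtain ⟨a, ha, c, hc, hac⟩ := Subgroup.mem_sup_of_normal_right.mp h2
    rw [show g = (a : G) * (c : G) from (congrArg Subtype.val hac).symm]
    exact mul_mem (Subgroup.mem_sup_right ⟨a, ha, rfl⟩) (Subgroup.mem_sup_left hc)
  -- it is enough that `R` fixes an involution
  have hkey : ∀ v ∈ V, v ≠ 1 → (∀ x ∈ R, Commute x v) → False := by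
    intro v hv hv1 hvR
    have hNv : N ≤ Subgroup.centralizer {v} := by
      rw [← hsup]
      refine sup_le (fun c hc => ?_) (fun x hx => Subgroup.mem_centralizer_singleton_iff.mpr (hvR x hx).eq)
      exact Subgroup.mem_centralizer_singleton_iff.mpr (Subgroup.mem_centralizer_iff.mp hc v hv).symm
    have hNC : N ≤ C := fun x hx => Subgroup.mem_centralizer_iff.mpr fun w hw => by
      rcases eq_or_ne w 1 with rfl | hw1
      · rw [one_mul, mul_one]
      obtain ⟨g, hg⟩ := isConj_iff.mp (hconj v w hv1 ((hV v).mp hv) hw1 ((hV w).mp hw))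
      have h1 : g⁻¹ * x * g ∈ Subgroup.centralizer {v} := hNv (by
        simpa using (inferInstance : N.Normal).conj_mem x hx g⁻¹)
      rw [Subgroup.mem_centralizer_singleton_iff] at h1
      rw [← hg]
      calc g * v * g⁻¹ * x = g * (v * (g⁻¹ * x * g)) * g⁻¹ := by group
        _ = g * (g⁻¹ * x * g * v) * g⁻¹ := by rw [h1]
        _ = x * (g * v * g⁻¹) := by group
    refine hQ1 ((Subgroup.eq_bot_iff_forall _).mpr fun y hy => ?_)
    obtain ⟨y, rfl⟩ := QuotientGroup.mk'_surjective C y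
    exact (QuotientGroup.eq_one_iff y).mpr (hNC hy)
  have hRr : IsPGroup r R := P.2.map N.subtype
  have hRV : R ≤ Subgroup.normalizer (V : Set G) := by
    rw [Subgroup.normalizer_eq_top]; exact le_top
  by_cases hr2 : r = 2
  · subst hr2
    obtain ⟨v, hv, hv1, hvR⟩ := AbelianTrace.exists_fixed (p := 2) hV2 hRr hRV hV1
    exact hkey v hv hv1 fun x hx => hvR x hx
  have hfr : N ⊔ Subgroup.normalizer (R : Set G) = ⊤ := by
    rw [hR, sup_comm]; exact Sylow.normalizer_sup_eq_top P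
  have heven : 2 ∣ Nat.card (Subgroup.normalizer (R : Set G)) := by
    have hsurj : (Subgroup.normalizer (R : Set G)).map (QuotientGroup.mk' C) = ⊤ := by
      have h := congrArg (Subgroup.map (QuotientGroup.mk' C)) hfr
      rw [Subgroup.map_top_of_surjective _ (QuotientGroup.mk'_surjective C), ← hsup, Subgroup.map_sup,
        Subgroup.map_sup] at h
      rw [← h, show C.map (QuotientGroup.mk' C) = ⊥ from (Subgroup.map_eq_bot_iff _).mpr
        (QuotientGroup.ker_mk' C).ge, bot_sup_eq, eq_comm, sup_eq_right]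
      exact Subgroup.map_mono Subgroup.le_normalizer
    have h2 := Subgroup.card_map_dvd (H := Subgroup.normalizer (R : Set G)) (QuotientGroup.mk' C)
    rw [hsurj, Subgroup.card_top] at h2
    exact (even_iff_two_dvd.mp hodd).trans h2
  obtain ⟨⟨u, hu⟩, hu2⟩ := exists_prime_orderOf_dvd_card' 2 heven
  rw [Subgroup.orderOf_mk] at hu2
  have huV : u ∈ V := (hV u).mpr (hu2 ▸ pow_orderOf_eq_one u)
  refine hkey u huV (fun h => by rw [h, orderOf_one] at hu2; norm_num at hu2) fun x hx => ?_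
  have h1 : ⁅u, x⁆ ∈ R :=
    mul_mem ((Subgroup.mem_normalizer_iff.mp hu x).mp hx) (inv_mem hx)
  have h2 : ⁅u, x⁆ ∈ V := by
    rw [show ⁅u, x⁆ = u * (x * u⁻¹ * x⁻¹) by rw [commutatorElement_def]; group]
    exact mul_mem huV ((inferInstance : V.Normal).conj_mem _ (inv_mem huV) x)
  have h3 : Disjoint R V := Subgroup.disjoint_of_coprime_natCard (by
    obtain ⟨a, ha⟩ := hRr.exists_card_eq
    obtain ⟨b, hb⟩ := hV2.exists_card_eq
    rw [ha, hb]
    exact (((Nat.coprime_primes hr Nat.prime_two).mpr hr2).pow_left a).pow_right b)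
  exact (commutatorElement_eq_one_iff_mul_comm.mp (Subgroup.disjoint_def.mp h3 h1 h2)).symm

/-- The core of the argument. -/
theorem core_contra {V T M X S0 H : Subgroup G} {n : ℕ} (hn : 2 ≤ n) (hVcard : Nat.card V = 2 ^ n)
    (hV : ∀ x, x ∈ V ↔ x ^ 2 = 1) (hT : IsPGroup 2 T) (hTV : ∀ t ∈ T, ∀ v ∈ V, Commute t v)
    (hCT : Subgroup.centralizer (T : Set G) ≤ T)
    (hMT : M ≤ Subgroup.normalizer (T : Set G)) (hMX : M ≤ Subgroup.normalizer (X : Set G))
    (hXM : X ≤ M) (hX : Odd (Nat.card X)) (hXV : ∀ x ∈ X, ∀ v ∈ V, Commute x v)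
    (hS : IsPGroup 2 S0) (hSM : S0 ≤ M) (hSV : ∀ s ∈ S0, ∀ v ∈ V, Commute s v)
    (hHM : H ≤ M) (hHS : H ≤ Subgroup.normalizer (S0 : Set G)) (hH : Odd (Nat.card H))
    (htr : ∀ u ∈ V, ∀ v ∈ V, u ≠ 1 → v ≠ 1 → ∃ h ∈ H, h * u * h⁻¹ = v)
    (hsq : ∀ s ∈ S0, ∀ x ∈ X, Commute (s * s) x)
    (hcm : ∀ s ∈ S0, ∀ t ∈ S0, ∀ x ∈ X, Commute ⁅s, t⁆ x)
    (hne : ¬ ∀ s ∈ S0, ∀ x ∈ X, Commute s x)
    (hmin : ∀ K : Subgroup G, K ≤ X → K ≠ X → M ≤ Subgroup.normalizer (K : Set G) →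
      ∀ s ∈ S0, ∀ x ∈ K, Commute s x)
    (hsolv : Group.IsSolvable X) : False := by
  classical
  have hXne : X ≠ ⊥ := fun h => hne fun s _ x hx => by
    rw [h, Subgroup.mem_bot] at hx; rw [hx]; exact Commute.one_right s
  have hX'M : M ≤ Subgroup.normalizer ((⁅X, X⁆ : Subgroup G) : Set G) := fun m hm => by
    have hmX := Subgroup.mem_normalizer_iff.mp (hMX hm)
    have hmap : X.map (MulAut.conj m).toMonoidHom = X := by
      refine le_antisymm ?_ fun x hx => ⟨m⁻¹ * x * m, ?_, by simp [mul_assoc]⟩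
      · rintro _ ⟨x, hx, rfl⟩; exact (hmX x).mp hx
      · exact (hmX _).mpr (by simpa [mul_assoc] using hx)
    have h2 : (⁅X, X⁆ : Subgroup G).map (MulAut.conj m).toMonoidHom = ⁅X, X⁆ := by
      rw [Subgroup.map_commutator, hmap]
    refine Subgroup.mem_normalizer_iff.mpr fun c => ⟨fun hc => h2.le ⟨c, hc, rfl⟩, fun hc => ?_⟩
    obtain ⟨d, hd, hd'⟩ := h2.ge hc
    rwa [← (MulAut.conj m).injective hd']
  have hX'ne : ⁅X, X⁆ ≠ X := by
    haveI := hsolv
    haveI : Nontrivial X := (Subgroup.nontrivial_iff_ne_bot X).mpr hXne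
    intro h
    refine (Group.IsSolvable.commutator_lt_top_of_nontrivial X).ne ?_
    refine Subgroup.map_injective X.subtype_injective ?_
    rw [Subgroup.map_subtype_commutator, h, ← MonoidHom.range_eq_map, Subgroup.range_subtype]
  have hX' : ∀ s ∈ S0, ∀ x ∈ ⁅X, X⁆, Commute s x := hmin _ commutator_self_le hX'ne hX'M
  have hSX : S0 ≤ Subgroup.normalizer (X : Set G) := hSM.trans hMX
  obtain ⟨z, r, hr, hr2, hzX, hz1, hzr, ⟨a, ha, haz⟩, hzall⟩ := exists_eigen hS hX hSX hX' hsq hcm hne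
  have hsq1 : ∀ x ∈ X, x = x⁻¹ → x = 1 := fun x hx h =>
    eq_one_of_sq_eq_one hX hx (mul_eq_one_iff_eq_inv.mpr h)
  have hXT : ¬ X ≤ Subgroup.centralizer (T : Set G) := fun h => by
    have hzT := hCT (h hzX)
    exact hz1 (orderOf_eq_one_iff.mp (Nat.eq_one_of_dvd_coprimes
      (coprime_two_odd hT hX hzT hzX) dvd_rfl dvd_rfl))
  obtain ⟨D, hDT, hMD, hDX, hD4, hDc⟩ := exists_minimal_moved hT hX hXM hMT hMX hXT
  -- conjugates of the eigenvector
  have hconjS : ∀ h ∈ H, ∀ s ∈ S0, h⁻¹ * s * h ∈ S0 := fun h hh s hs => by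
    simpa using (Subgroup.mem_normalizer_iff.mp (hHS (inv_mem hh)) s).mp hs
  have hconjS' : ∀ h ∈ H, ∀ s ∈ S0, h * s * h⁻¹ ∈ S0 := fun h hh s hs =>
    (Subgroup.mem_normalizer_iff.mp (hHS hh) s).mp hs
  have hzhX : ∀ h ∈ H, h * z * h⁻¹ ∈ X := fun h hh =>
    (Subgroup.mem_normalizer_iff.mp (hMX (hHM hh)) z).mp hzX
  have hall : ∀ h ∈ H, ∀ s ∈ S0,
      s * (h * z * h⁻¹) * s⁻¹ = h * z * h⁻¹ ∨ s * (h * z * h⁻¹) * s⁻¹ = (h * z * h⁻¹)⁻¹ := by
    intro h hh s hs
    have e : s * (h * z * h⁻¹) * s⁻¹ = h * ((h⁻¹ * s * h) * z * (h⁻¹ * s * h)⁻¹) * h⁻¹ := by group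
    rw [e]
    rcases hzall _ (hconjS h hh s hs) with h1 | h1
    · exact Or.inl (by rw [h1])
    · exact Or.inr (by rw [h1]; group)
  let Φ : H → Subgroup G := fun h => S0 ⊓ Subgroup.centralizer {(h : G) * z * (h : G)⁻¹}
  let ι := ↥(Set.range Φ)
  haveI : Fintype ι := Fintype.ofFinite ι
  choose rep hrep using fun i : ι => i.2
  let zf : ι → G := fun i => (rep i : G) * z * (rep i : G)⁻¹
  have hzfX : ∀ i, zf i ∈ X := fun i => hzhX _ (rep i).2
  have hsep : ∀ i j : ι, i ≠ j → ∃ s ∈ S0,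
      (s * zf i * s⁻¹ = (zf i)⁻¹ ∧ Commute s (zf j)) ∨ (s * zf j * s⁻¹ = (zf j)⁻¹ ∧ Commute s (zf i)) := by
    intro i j hij
    have hne' : Φ (rep i) ≠ Φ (rep j) := fun h => hij (Subtype.ext (by rw [← hrep i, ← hrep j, h]))
    by_contra hno
    push Not at hno
    refine hne' (le_antisymm (fun s hs => ⟨hs.1, Subgroup.mem_centralizer_singleton_iff.mpr ?_⟩)
      (fun s hs => ⟨hs.1, Subgroup.mem_centralizer_singleton_iff.mpr ?_⟩))
    · have hc : Commute s (zf j) := Subgroup.mem_centralizer_singleton_iff.mp hs.2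
      rcases hall _ (rep i).2 s hs.1 with h1 | h1
      · exact mul_inv_eq_iff_eq_mul.mp h1
      · exact absurd hc ((hno s hs.1).1 h1)
    · have hc : Commute s (zf i) := Subgroup.mem_centralizer_singleton_iff.mp hs.2
      rcases hall _ (rep j).2 s hs.1 with h1 | h1
      · exact mul_inv_eq_iff_eq_mul.mp h1
      · exact absurd hc ((hno s hs.1).2 h1)
  have hcommz : ∀ i j, Commute (zf i) (zf j) := by
    intro i j
    rcases eq_or_ne i j with rfl | hij
    · exact Commute.refl _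
    obtain ⟨s, hs, ⟨h1, h2⟩ | ⟨h1, h2⟩⟩ := hsep i j hij
    · exact commute_of_inverted hX hSX hX' hs (hzfX i) (hzfX j) h1 h2
    · exact (commute_of_inverted hX hSX hX' hs (hzfX j) (hzfX i) h1 h2).symm
  have hDconj : ∀ m ∈ M, ∀ d ∈ D, m * d * m⁻¹ ∈ D := fun m hm d hd =>
    (Subgroup.mem_normalizer_iff.mp (hMD hm) d).mp hd
  have hnt : ∀ i, ∃ d ∈ D, zf i * d * (zf i)⁻¹ ≠ d := by
    intro i
    by_contra hno
    push Not at hno
    set K := X ⊓ Subgroup.centralizer (D : Set G) with hK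
    have hKinv : ∀ m ∈ M, ∀ k ∈ K, m * k * m⁻¹ ∈ K := fun m hm k hk => by
      refine ⟨(Subgroup.mem_normalizer_iff.mp (hMX hm) k).mp hk.1, Subgroup.mem_centralizer_iff.mpr fun d hd => ?_⟩
      have h1 := Subgroup.mem_centralizer_iff.mp hk.2 (m⁻¹ * d * m) (by simpa using hDconj m⁻¹ (inv_mem hm) d hd)
      calc d * (m * k * m⁻¹) = m * ((m⁻¹ * d * m) * k) * m⁻¹ := by group
        _ = m * (k * (m⁻¹ * d * m)) * m⁻¹ := by rw [h1]
        _ = m * k * m⁻¹ * d := by group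
    have hKne : K ≠ X := fun h => hDX (h.ge.trans inf_le_right)
    have hMK : M ≤ Subgroup.normalizer (K : Set G) := fun m hm => Subgroup.mem_normalizer_iff.mpr fun k =>
      ⟨hKinv m hm k, fun hk => by simpa [mul_assoc] using hKinv m⁻¹ (inv_mem hm) _ hk⟩
    have hzK : zf i ∈ K := ⟨hzfX i, Subgroup.mem_centralizer_iff.mpr fun d hd =>
      (mul_inv_eq_iff_eq_mul.mp (hno d hd)).symm⟩
    have hfix := hmin K inf_le_left hKne hMK _ (hconjS' _ (rep i).2 a ha) _ hzK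
    have hc : Commute a z := (commute_conj_iff (rep i : G)).mp hfix
    rw [hc.eq, mul_inv_cancel_right] at haz
    exact hz1 (hsq1 z hzX haz)
  have hbound : 2 ^ Fintype.card ι ≤ 2 ^ n := by
    rw [← hVcard]
    refine family_bound hV (fun d hd v hv => hTV d (hDT hd) v hv) hD4 hDc zf hr hr2
      (fun i => by show ((rep i : G) * z * (rep i : G)⁻¹) ^ r = 1; rw [conj_pow, hzr]; group)
      (fun i => hMD (hXM (hzfX i))) (fun i => hXV _ (hzfX i)) hnt hcommz (fun i j hij => ?_)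
    obtain ⟨s, hs, h⟩ := hsep i j hij
    exact ⟨s, hMD (hSM hs), hSV s hs, h⟩
  have hιn : Fintype.card ι ≤ n := (Nat.pow_le_pow_iff_right (le_refl 2)).mp hbound
  -- an involution fixed by the stabiliser
  set B := S0 ⊓ Subgroup.centralizer {z} with hB
  set H1 := H ⊓ Subgroup.normalizer (B : Set G) with hH1
  have haB : a ∉ B := fun h => by
    have hc : Commute a z := Subgroup.mem_centralizer_singleton_iff.mp h.2
    rw [hc.eq, mul_inv_cancel_right] at haz
    exact hz1 (hsq1 z hzX haz)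
  have hH1S : H1 ≤ Subgroup.normalizer (S0 : Set G) := inf_le_left.trans hHS
  have hcop : (Nat.card H1).Coprime (Nat.card S0) := by
    obtain ⟨k, hk⟩ := hS.exists_card_eq
    rw [hk]
    exact Nat.Coprime.pow_right k (Nat.coprime_two_right.mpr
      (hH.of_dvd_nat (Subgroup.card_dvd_of_le inf_le_left)))
  have hside : ∀ s ∈ S0, s ∉ B → s * z * s⁻¹ = z⁻¹ := fun s hs hsB => by
    rcases hzall s hs with h | h
    · exact absurd ⟨hs, Subgroup.mem_centralizer_singleton_iff.mpr (mul_inv_eq_iff_eq_mul.mp h)⟩ hsB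
    · exact h
  have hcommB : ⁅S0, H1⁆ ≤ B := by
    rw [Subgroup.commutator_le]
    intro s hs h hh
    have hhs : h * s⁻¹ * h⁻¹ ∈ S0 := hconjS' h hh.1 _ (inv_mem hs)
    have hiff := Subgroup.mem_normalizer_iff.mp hh.2 s⁻¹
    rw [show ⁅s, h⁆ = s * (h * s⁻¹ * h⁻¹) by rw [commutatorElement_def]; group]
    by_cases hsB : s ∈ B
    · exact mul_mem hsB (hiff.mp (inv_mem hsB))
    refine ⟨mul_mem hs hhs, Subgroup.mem_centralizer_singleton_iff.mpr ?_⟩
    have h2 : h * s⁻¹ * h⁻¹ ∉ B := fun hc => hsB (by simpa using inv_mem (hiff.mpr hc))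
    rw [← mul_inv_eq_iff_eq_mul]
    have h3 := hside _ hhs h2
    have h4 := hside s hs hsB
    calc s * (h * s⁻¹ * h⁻¹) * z * (s * (h * s⁻¹ * h⁻¹))⁻¹ =
        s * ((h * s⁻¹ * h⁻¹) * z * (h * s⁻¹ * h⁻¹)⁻¹) * s⁻¹ := by group
      _ = s * z⁻¹ * s⁻¹ := by rw [h3]
      _ = (s * z * s⁻¹)⁻¹ := by group
      _ = z := by rw [h4, inv_inv]
  obtain ⟨x, hx, c, hc, hxc⟩ := CfsgLib.coprime_decomp hH1S hcop (Or.inr (by haveI := hS.isNilpotent; infer_instance)) ha
  have hcB : c ∉ B := fun h => haB (hxc ▸ mul_mem (hcommB hx) h)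
  obtain ⟨k, hk⟩ := hS ⟨c, hc.1⟩
  obtain ⟨j, -, hj⟩ := (Nat.dvd_prime_pow Nat.prime_two).mp
    (orderOf_dvd_of_pow_eq_one (congrArg Subtype.val hk : c ^ 2 ^ k = 1))
  have hj0 : j ≠ 0 := fun h => hcB (by
    rw [orderOf_eq_one_iff.mp (show orderOf c = 1 by rw [hj, h, pow_zero])]; exact one_mem _)
  set u := c ^ 2 ^ (j - 1) with hu
  have hu1 : u ≠ 1 := fun h => by
    have h1 := orderOf_dvd_of_pow_eq_one h
    rw [hj, Nat.pow_dvd_pow_iff_le_right (le_refl 2)] at h1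
    omega
  have huV : u ∈ V := (hV u).mpr (by
    rw [hu, ← pow_mul, ← pow_succ, show j - 1 + 1 = j by omega, ← hj, pow_orderOf_eq_one])
  have hufix : ∀ h ∈ H1, h * u * h⁻¹ = u := fun h hh => by
    have h1 : Commute h c := Subgroup.mem_centralizer_iff.mp hc.2 h hh
    rw [(show Commute h u from h1.pow_right _).eq, mul_inv_cancel_right]
  let F : Option ι → V := fun o => match o with
    | none => 1
    | some i => ⟨(rep i : G) * u * (rep i : G)⁻¹, (hV _).mpr (by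
        rw [conj_pow, (hV u).mp huV]; group)⟩
  have hF : Function.Surjective F := by
    rintro ⟨v, hv⟩
    rcases eq_or_ne v 1 with rfl | hv1
    · exact ⟨none, rfl⟩
    obtain ⟨h, hh, hhv⟩ := htr u huV v hv hu1 hv1
    refine ⟨some ⟨Φ ⟨h, hh⟩, ⟨_, rfl⟩⟩, Subtype.ext ?_⟩
    show (rep ⟨Φ ⟨h, hh⟩, ⟨_, rfl⟩⟩ : G) * u * (rep ⟨Φ ⟨h, hh⟩, ⟨_, rfl⟩⟩ : G)⁻¹ = v
    set h' := rep ⟨Φ ⟨h, hh⟩, ⟨_, rfl⟩⟩ with hh'
    have heq : Φ h' = Φ ⟨h, hh⟩ := hrep ⟨Φ ⟨h, hh⟩, ⟨_, rfl⟩⟩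
    set g := (h' : G)⁻¹ * h with hg
    have hgH : g ∈ H := mul_mem (inv_mem h'.2) hh
    have hiff : ∀ b ∈ S0, (Commute b z ↔ Commute (g * b * g⁻¹) z) := by
      intro b hb
      have h1 : h * b * h⁻¹ ∈ Φ ⟨h, hh⟩ ↔ Commute b z := by
        simp only [Φ, Subgroup.mem_inf, Subgroup.mem_centralizer_singleton_iff]
        exact ⟨fun hm => (commute_conj_iff h).mp hm.2, fun hm => ⟨hconjS' h hh b hb, ((commute_conj_iff h).mpr hm).eq⟩⟩
      have h2 : h * b * h⁻¹ ∈ Φ h' ↔ Commute (g * b * g⁻¹) z := by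
        simp only [Φ, Subgroup.mem_inf, Subgroup.mem_centralizer_singleton_iff]
        have e : h * b * h⁻¹ = (h' : G) * (g * b * g⁻¹) * (h' : G)⁻¹ := by rw [hg]; group
        rw [e]
        exact ⟨fun hm => (commute_conj_iff _).mp hm.2,
          fun hm => ⟨e ▸ hconjS' h hh b hb, ((commute_conj_iff _).mpr hm).eq⟩⟩
      rw [← h1, ← h2, heq]
    have hgN : g ∈ H1 := ⟨hgH, Subgroup.mem_normalizer_iff.mpr fun b => by
      constructor
      · rintro ⟨hb, hbz⟩
        exact ⟨hconjS' g hgH b hb, Subgroup.mem_centralizer_singleton_iff.mpr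
          ((hiff b hb).mp (Subgroup.mem_centralizer_singleton_iff.mp hbz)).eq⟩
      · rintro ⟨hb, hbz⟩
        have hb' : b ∈ S0 := by simpa [mul_assoc] using hconjS g hgH _ hb
        exact ⟨hb', Subgroup.mem_centralizer_singleton_iff.mpr
          ((hiff b hb').mpr (Subgroup.mem_centralizer_singleton_iff.mp hbz)).eq⟩⟩
    rw [← hhv, show h = (h' : G) * g by rw [hg]; group,
      show (h' : G) * g * u * ((h' : G) * g)⁻¹ = (h' : G) * (g * u * g⁻¹) * (h' : G)⁻¹ by group, hufix g hgN]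
  have hle := Nat.card_le_card_of_surjective F hF
  rw [Finite.card_option, hVcard, Nat.card_eq_fintype_card] at hle
  obtain ⟨m, rfl⟩ : ∃ m, n = m + 1 := ⟨n - 1, by omega⟩
  have := Nat.lt_two_pow_self (n := m)
  rw [pow_succ] at hle
  omega

end CfsgLib.OneInvClass
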