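import Mathlib

/-!
Quadratic maps on elementary abelian 2-groups invariant under commuting automorphisms of odd
order, separated by involutory automorphisms: the images of such automorphisms are orthogonal,
which bounds their number by the dimension of the target.
-/

set_option autoImplicit false
set_option linter.unusedSectionVars false

namespace CfsgLib.OneInvClass

open Finset

/-- The norm of an element of a ring. -/
def nrm {R : Type*} [Ring R] (r : ℕ) (a : R) : R := ∑ i ∈ range r, a ^ i

theorem nrm_mul_sub_one {R : Type*} [Ring R] {r : ℕ} {a : R} (ha : a ^ r = 1) {k : ℕ}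
    (hk : k.Coprime r) : nrm r (a ^ k) * (a - 1) = 0 := by
  obtain ⟨j, hj⟩ := exists_pow_eq_self_of_coprime
    (hk.coprime_dvd_right (orderOf_dvd_of_pow_eq_one ha))
  have h1 : a - 1 = (a ^ k - 1) * ∑ i ∈ range j, (a ^ k) ^ i := by rw [mul_geom_sum, hj]
  rw [h1, ← mul_assoc, nrm, geom_sum_mul, ← pow_mul, mul_comm, pow_mul, ha, one_pow, sub_self, zero_mul]

theorem nrm_mul_self {R : Type*} [Ring R] {r : ℕ} {a : R} (ha : a ^ r = 1) :
    nrm r a * (a - 1) = 0 ∧ (a - 1) * nrm r a = 0 := by
  rw [nrm, geom_sum_mul, mul_geom_sum, ha, sub_self]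
  exact ⟨rfl, rfl⟩

theorem nsmul_odd {W : Type*} [AddCommGroup W] (hW : ∀ x : W, x + x = 0) {r : ℕ} (hr : Odd r) (x : W) :
    r • x = x := by
  obtain ⟨k, rfl⟩ := hr
  rw [add_smul, one_smul, mul_comm, mul_smul, two_smul, hW, smul_zero, zero_add]

variable {W U : Type*} [AddCommGroup W] [AddCommGroup U] {Γ : Type*} [Group Γ]

theorem nrm_apply_fixed (hW : ∀ x : W, x + x = 0) {r : ℕ} (hr : Odd r) {a : Module.End ℤ W} {x : W}
    (hx : a x = x) : nrm r a x = x := by
  have h : ∀ i : ℕ, (a ^ i) x = x := fun i => by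
    induction i with
    | zero => simp
    | succ i ih => rw [pow_succ, Module.End.mul_apply, hx, ih]
  rw [nrm, LinearMap.sum_apply, sum_congr rfl fun i _ => h i, sum_const, card_range, nsmul_odd hW hr]

/-- The hypotheses on the quadratic map. -/
structure Datum (ρ : Γ →* Module.End ℤ W) (q : W → U) : Prop where
  two_W : ∀ x : W, x + x = 0
  two_U : ∀ u : U, u + u = 0
  bilin : ∀ x y z : W, q (x + y + z) - q (x + y) - q z = (q (x + z) - q x - q z) + (q (y + z) - q y - q z)
  anis : ∀ x, q x = 0 → x = 0
  inv : ∀ g x, q (ρ g x) = q x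

variable {ρ : Γ →* Module.End ℤ W} {q : W → U}

/-- The polar form. -/
def polar (q : W → U) (x y : W) : U := q (x + y) - q x - q y

theorem Datum.polar_add (h : Datum ρ q) (x y z : W) :
    polar q (x + y) z = polar q x z + polar q y z := h.bilin x y z

theorem polar_comm (x y : W) : polar q x y = polar q y x := by
  rw [polar, polar, add_comm y x]; abel

/-- The polar form as a homomorphism in the first variable. -/
def Datum.polarHom (h : Datum ρ q) (z : W) : W →+ U :=
  AddMonoidHom.mk' (fun x => polar q x z) (fun x y => h.polar_add x y z)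

theorem Datum.polar_inv (h : Datum ρ q) (g : Γ) (x y : W) :
    polar q (ρ g x) (ρ g y) = polar q x y := by
  simp only [polar, ← map_add, h.inv]

/-- Two commuting elements of odd prime order, one inverted and one fixed by a third one. -/
theorem Datum.pair (h : Datum ρ q) {z w t : Γ} {r : ℕ} (hr : r.Prime) (hr2 : Odd r) (hz : z ^ r = 1)
    (hw : w ^ r = 1) (hzw : Commute z w) (ht : t * z * t⁻¹ = z⁻¹) (htw : Commute t w) (y₀ : W) :
    ((ρ z - 1) * (ρ w - 1)) y₀ = 0 := by
  by_contra hc
  set a := ρ z with ha_def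
  set f := ρ w with hf_def
  set P := (a - 1) * (f - 1) with hP
  set c := P y₀ with hc_def
  have ha : a ^ r = 1 := by rw [ha_def, ← map_pow, hz, map_one]
  have hf : f ^ r = 1 := by rw [hf_def, ← map_pow, hw, map_one]
  have haf : Commute a f := hzw.map ρ
  have hP' : P = (f - 1) * (a - 1) := by
    rw [hP]
    exact (((haf.sub_left (Commute.one_left f)).sub_right (Commute.one_right _)).eq)
  have hsum : ∑ l ∈ range r, nrm r (a ^ l * f) c = c := by
    have h1 : ∀ l : ℕ, nrm r (a ^ l * f) c = ∑ i ∈ range r, (f ^ i) (((a ^ i) ^ l) c) := fun l => by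
      rw [nrm, LinearMap.sum_apply]
      refine sum_congr rfl fun i _ => ?_
      rw [(haf.pow_left l).mul_pow, ← pow_mul, mul_comm l i, pow_mul, ((haf.pow_left i).pow_left l).pow_right i |>.eq,
        Module.End.mul_apply]
    rw [sum_congr rfl fun l _ => h1 l, sum_comm]
    have h2 : ∀ i ∈ range r, ∑ l ∈ range r, (f ^ i) (((a ^ i) ^ l) c) = if i = 0 then c else 0 := by
      intro i hi
      rw [← map_sum, ← LinearMap.sum_apply, show ∑ l ∈ range r, (a ^ i) ^ l = nrm r (a ^ i) from rfl]
      split_ifs with hi0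
      · subst hi0
        rw [pow_zero, pow_zero, Module.End.one_apply]
        exact nrm_apply_fixed h.two_W hr2 rfl
      · have hcop : i.Coprime r := Nat.Coprime.symm (hr.coprime_iff_not_dvd.mpr
          (fun hd => absurd (Nat.le_of_dvd (by omega) hd) (not_le.mpr (mem_range.mp hi))))
        rw [hc_def, ← Module.End.mul_apply (nrm r (a ^ i)), hP, ← mul_assoc, nrm_mul_sub_one ha hcop,
          zero_mul, LinearMap.zero_apply, map_zero]
    rw [sum_congr rfl h2, sum_ite_eq', if_pos (mem_range.mpr hr.pos)]
  obtain ⟨l, -, hl⟩ : ∃ l ∈ range r, nrm r (a ^ l * f) c ≠ 0 := exists_ne_zero_of_sum_ne_zero (by rwa [hsum])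
  set e := a ^ l * f with he
  set x := nrm r e c with hx_def
  have her : e ^ r = 1 := by
    rw [he, (haf.pow_left l).mul_pow, hf, ← pow_mul, mul_comm, pow_mul, ha, one_pow, one_mul]
  have hex : e x = x := by
    have := (nrm_mul_self her).2
    have h' : (e - 1) x = 0 := by rw [hx_def, ← Module.End.mul_apply, this, LinearMap.zero_apply]
    rwa [LinearMap.sub_apply, Module.End.one_apply, sub_eq_zero] at h'
  -- the twisted element
  set g' := (z ^ l)⁻¹ * w with hg'
  set e' := ρ g' with he'
  have hcl : Commute (z ^ l) w := hzw.pow_left l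
  have he'e : e' * e = f ^ 2 := by
    rw [he', he, ha_def, hf_def, ← map_pow, ← map_mul, ← map_mul, ← map_pow]
    congr 1
    rw [hg', sq]
    calc (z ^ l)⁻¹ * w * (z ^ l * w) = (z ^ l)⁻¹ * (w * z ^ l) * w := by group
      _ = (z ^ l)⁻¹ * (z ^ l * w) * w := by rw [hcl.eq]
      _ = _ := by group
  have he'f : Commute e' f := ((hcl.inv_left.mul_left (Commute.refl w)).map ρ)
  have he'x : e' x = (f ^ 2) x := by rw [← he'e, Module.End.mul_apply, hex]
  have hpow : ∀ i : ℕ, (e' ^ i) x = ((f ^ 2) ^ i) x := by
    intro i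
    induction i with
    | zero => rfl
    | succ i ih =>
      rw [pow_succ, Module.End.mul_apply, he'x, ← Module.End.mul_apply,
        ((he'f.pow_pow i 2).eq), Module.End.mul_apply, ih, ← Module.End.mul_apply, ← pow_succ']
  have hN2 : nrm r (f ^ 2) x = 0 := by
    have h2 : Nat.Coprime 2 r := by
      obtain ⟨k, hk⟩ := hr2
      rw [hk, Nat.coprime_two_left]; exact ⟨k, rfl⟩
    have he_f : Commute e f := (haf.pow_left l).mul_left (Commute.refl f)
    have hcomm : Commute (nrm r (f ^ 2)) (nrm r e) := by
      unfold nrm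
      exact Commute.sum_left _ _ _ fun i _ => Commute.sum_right _ _ _ fun j _ =>
        ((he_f.symm.pow_left 2).pow_left i).pow_right j
    rw [hx_def, hc_def, ← Module.End.mul_apply, ← Module.End.mul_apply, hcomm.eq, mul_assoc, hP',
      ← mul_assoc (nrm r (f ^ 2)), nrm_mul_sub_one hf h2, zero_mul, mul_zero, LinearMap.zero_apply]
  set y := ρ t x with hy
  have he'y : e' y = y := by
    have hg : g' * t = t * (z ^ l * w) := by
      have h1 : t * z ^ l * t⁻¹ = (z ^ l)⁻¹ := by rw [← conj_pow, ht, inv_pow]
      rw [hg', ← h1]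
      calc t * z ^ l * t⁻¹ * w * t = t * z ^ l * t⁻¹ * (w * t) := by group
        _ = t * z ^ l * t⁻¹ * (t * w) := by rw [htw.eq]
        _ = _ := by group
    rw [hy, he', ← Module.End.mul_apply, ← map_mul, hg, map_mul, map_mul, map_pow, Module.End.mul_apply]
    exact congrArg (ρ t) hex
  have hyx : y ≠ x := by
    intro hyx
    have hfx : (f ^ 2) x = x := by rw [← he'x]; rwa [hyx] at he'y
    exact hl ((nrm_apply_fixed h.two_W hr2 hfx).symm.trans hN2)
  have hb : polar q x y = 0 := by
    have h1 : ∀ i : ℕ, polar q ((e' ^ i) x) y = polar q x y := fun i => by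
      induction i with
      | zero => simp
      | succ i ih =>
        rw [pow_succ', Module.End.mul_apply]
        nth_rewrite 1 [← he'y]
        rw [he', h.polar_inv, ← he', ih]
    have h2 : ∑ i ∈ range r, h.polarHom y ((e' ^ i) x) = r • polar q x y := by
      rw [sum_congr rfl fun i _ => (show h.polarHom y ((e' ^ i) x) = polar q x y from h1 i), sum_const, card_range]
    rw [← map_sum, sum_congr rfl fun i _ => hpow i, ← LinearMap.sum_apply,
      show ∑ i ∈ range r, (f ^ 2) ^ i = nrm r (f ^ 2) from rfl, hN2, map_zero, nsmul_odd h.two_U hr2] at h2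
    exact h2.symm
  apply hyx
  have hqy : q y = q x := by rw [hy, h.inv]
  rw [polar, hqy, sub_sub, sub_eq_zero, h.two_U] at hb
  have hxy := h.anis _ hb
  rw [eq_neg_of_add_eq_zero_right hxy, eq_comm]
  exact eq_neg_of_add_eq_zero_left (h.two_W x)

/-- The bound on the number of such elements. -/
theorem Datum.card_le (h : Datum ρ q) [Finite U] {ι : Type*} [Fintype ι] (e : ι → Γ)
    (hord : ∀ i, ∃ r : ℕ, Odd r ∧ e i ^ r = 1) (hne : ∀ i, ρ (e i) ≠ 1)
    (hp : ∀ i j, i ≠ j → (ρ (e i) - 1) * (ρ (e j) - 1) = 0) :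
    2 ^ Fintype.card ι ≤ Nat.card U := by
  classical
  have hex : ∀ i, ∃ y, (ρ (e i) - 1) y ≠ 0 := fun i => by
    by_contra hh; push Not at hh
    exact hne i (sub_eq_zero.mp (LinearMap.ext fun y => hh y))
  choose y hy using hex
  set w := fun i => (ρ (e i) - 1) (y i) with hw
  have hzero : ∀ i j, i ≠ j → (ρ (e i) - 1) (w j) = 0 := fun i j hij => by
    rw [hw, ← Module.End.mul_apply, hp i j hij, LinearMap.zero_apply]
  have hfix : ∀ i j, i ≠ j → ρ (e i) (w j) = w j := fun i j hij => by
    have := hzero i j hij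
    rwa [LinearMap.sub_apply, Module.End.one_apply, sub_eq_zero] at this
  have hself : ∀ i, (ρ (e i) - 1) (w i) ≠ 0 := fun i hh => by
    obtain ⟨r, hr, he⟩ := hord i
    have hf : ρ (e i) (w i) = w i := by rwa [LinearMap.sub_apply, Module.End.one_apply, sub_eq_zero] at hh
    have h1 := nrm_apply_fixed h.two_W hr hf
    rw [hw, ← Module.End.mul_apply, (nrm_mul_self (by rw [← map_pow, he, map_one])).1, LinearMap.zero_apply] at h1
    exact hy i h1.symm
  have horth : ∀ i j, i ≠ j → polar q (w i) (w j) = 0 := fun i j hij => by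
    have h1 : w i = ρ (e i) (y i) - y i := by simp [hw]
    show h.polarHom (w j) (w i) = 0
    rw [h1, map_sub, sub_eq_zero]
    show polar q (ρ (e i) (y i)) (w j) = polar q (y i) (w j)
    nth_rewrite 1 [← hfix i j hij]
    exact h.polar_inv _ _ _
  have hq0 : q 0 = 0 := by
    have := map_zero (h.polarHom 0)
    simp only [Datum.polarHom, AddMonoidHom.mk'_apply, polar, add_zero] at this
    simpa using this
  have hqsum : ∀ S : Finset ι, q (∑ i ∈ S, w i) = ∑ i ∈ S, q (w i) := by
    intro S
    induction S using Finset.induction_on with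
    | empty => simpa using hq0
    | insert k S hk ih =>
      rw [sum_insert hk, sum_insert hk]
      have hb : polar q (∑ i ∈ S, w i) (w k) = 0 := by
        show h.polarHom (w k) (∑ i ∈ S, w i) = 0
        rw [map_sum]
        exact sum_eq_zero fun i hi => horth i k (fun hik => hk (hik ▸ hi))
      rw [polar_comm, polar, sub_sub, sub_eq_zero] at hb
      rw [hb, ih]
  have hinj : Function.Injective fun S : Finset ι => ∑ i ∈ S, q (w i) := by
    intro S T hST
    simp only at hST
    rw [← sum_inter_add_sum_sdiff S T, ← sum_inter_add_sum_sdiff T S, inter_comm T S] at hST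
    have hd : Disjoint (S \ T) (T \ S) := disjoint_sdiff_sdiff
    have h0 : ∑ i ∈ (S \ T) ∪ (T \ S), q (w i) = 0 := by
      rw [sum_union hd, add_left_cancel hST, h.two_U]
    have hw0 := h.anis _ ((hqsum _).trans h0)
    have hempty : (S \ T) ∪ (T \ S) = ∅ := by
      by_contra hne'
      obtain ⟨k, hk⟩ := nonempty_iff_ne_empty.mpr hne'
      have h1 := congrArg (fun v => (ρ (e k) - 1) v) hw0
      rw [map_sum, map_zero, sum_eq_single_of_mem k hk (fun i _ hik => hzero k i (Ne.symm hik))] at h1
      exact hself k h1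
    rw [union_eq_empty, sdiff_eq_empty_iff_subset, sdiff_eq_empty_iff_subset] at hempty
    exact Subset.antisymm hempty.1 hempty.2
  have := Nat.card_le_card_of_injective _ hinj
  simpa [Nat.card_eq_fintype_card] using this

end CfsgLib.OneInvClass
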