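import Cfsg.Agent.Lib.OneInvClass.Main

/-!
Thompson: with trivial odd core the Sylow 2-subgroup is normal.
-/

set_option autoImplicit false
set_option linter.unusedSectionVars false
set_option maxHeartbeats 800000

namespace CfsgLib.OneInvClass

open scoped commutatorElement Pointwise
open Cfsg

variable {G : Type*} [Group G] [Finite G]

/-- Frattini argument inside a subgroup `M` for a Sylow subgroup of a normalised `K ≤ M`. -/
theorem exists_sylow_frattini {p : ℕ} [Fact p.Prime] {K M : Subgroup G} (hKM : K ≤ M)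
    (hMK : M ≤ Subgroup.normalizer (K : Set G)) :
    ∃ P : Sylow p K, ∀ m ∈ M, ∃ k ∈ K, ∃ g ∈ M,
      g ∈ Subgroup.normalizer (((P : Subgroup K).map K.subtype : Subgroup G) : Set G) ∧ m = k * g := by
  haveI : (K.subgroupOf M).Normal := (Subgroup.normal_subgroupOf_iff_le_normalizer hKM).mpr hMK
  obtain ⟨P⟩ : Nonempty (Sylow p (K.subgroupOf M)) := inferInstance
  let e := Subgroup.subgroupOfEquivOfLe hKM
  let P' : Sylow p K := P.mapSurjective (f := e.toMonoidHom) e.surjective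
  refine ⟨P', fun m hm => ?_⟩
  have h := Sylow.normalizer_sup_eq_top P
  have hmem : (⟨m, hm⟩ : M) ∈ Subgroup.normalizer
      (((P : Subgroup (K.subgroupOf M)).map (K.subgroupOf M).subtype : Subgroup M) : Set M) ⊔ K.subgroupOf M :=
    h ▸ Subgroup.mem_top _
  obtain ⟨g, hg, k, hk, hgk⟩ := Subgroup.mem_sup_of_normal_right.mp hmem
  have hgk' : (g : G) * k = m := congrArg Subtype.val hgk
  have hset : (P' : Subgroup K).map K.subtype =
      ((P : Subgroup (K.subgroupOf M)).map (K.subgroupOf M).subtype).map M.subtype := by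
    show (((P : Subgroup (K.subgroupOf M)).map e.toMonoidHom).map K.subtype) = _
    rw [Subgroup.map_map, Subgroup.map_map]
    rfl
  refine ⟨g * k * (g : G)⁻¹, (Subgroup.mem_normalizer_iff.mp (hMK g.2) _).mp hk, g, g.2, ?_, ?_⟩
  · rw [hset]
    refine Subgroup.le_normalizer_map M.subtype ⟨g, hg, rfl⟩
  · rw [← hgk']; group

/-- **Thompson**, reduced form. -/
theorem sylow_eq_pCore [Group.IsSolvable G] (hO : pPrimeCore 2 G = ⊥) (S : Sylow 2 G)
    (hconj : ∀ x y : G, x ≠ 1 → x ^ 2 = 1 → y ≠ 1 → y ^ 2 = 1 → IsConj x y)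
    (htwo : ∃ x y : G, x ≠ y ∧ x ≠ 1 ∧ x ^ 2 = 1 ∧ y ≠ 1 ∧ y ^ 2 = 1) :
    (S : Subgroup G) = pCore 2 G := by
  classical
  haveI : Fact (Nat.Prime 2) := ⟨Nat.prime_two⟩
  set T := pCore 2 G with hT
  have hTp : IsPGroup 2 T := CfsgLib.isPGroup_pCore 2
  by_contra hST
  have hTS : T ≤ (S : Subgroup G) := CfsgLib.pCore_le_sylow S
  have hnle : ¬ (S : Subgroup G) ≤ T := fun h => hST (le_antisymm h hTS)
  obtain ⟨V, n, hVn, hn, hVcard, hV, hVT, hTV⟩ := exists_involution_subgroup hO hconj htwo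
  haveI := hVn
  have hV1 : V ≠ ⊥ := fun h => by
    rw [h, Subgroup.card_bot] at hVcard
    have h1 := Nat.pow_le_pow_right (show 0 < 2 by norm_num) hn
    omega
  have hCodd := odd_index_centralizer hV (IsPGroup.of_card hVcard) hV1 hconj
  set C := Subgroup.centralizer (V : Set G) with hC
  have hTC : T ≤ C := fun t ht => Subgroup.mem_centralizer_iff.mpr fun v hv => (hTV t ht v hv).eq.symm
  have hSC : (S : Subgroup G) ≤ C := by
    intro s hs
    obtain ⟨k, hk⟩ := S.2 ⟨s, hs⟩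
    have h1 : orderOf (QuotientGroup.mk' C s) ∣ 2 ^ k := orderOf_dvd_of_pow_eq_one (by
      rw [← map_pow, show s ^ 2 ^ k = 1 from congrArg Subtype.val hk, map_one])
    have h2 : orderOf (QuotientGroup.mk' C s) ∣ C.index := by
      rw [Subgroup.index_eq_card]; exact orderOf_dvd_natCard _
    exact (QuotientGroup.eq_one_iff s).mp (orderOf_eq_one_iff.mp (Nat.eq_one_of_dvd_coprimes
      ((Nat.coprime_two_left.mpr hCodd).pow_left k) h1 h2))
  -- the largest odd section over `T`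
  obtain ⟨Y0, ⟨hY0n, hTY0, hY0C, hY0odd⟩, hY0max⟩ := (Set.toFinite {Y : Subgroup G |
      Y.Normal ∧ T ≤ Y ∧ Y ≤ C ∧ Odd (T.relIndex Y)}).exists_maximal
    ⟨T, inferInstance, le_rfl, hTC, by rw [Subgroup.relIndex_self]; exact odd_one⟩
  haveI := hY0n
  have hCY0 : ¬ C ≤ Y0 := by
    intro h
    apply hnle
    have h1 : T.relIndex (S : Subgroup G) ∣ T.relIndex Y0 :=
      Dvd.intro _ (Subgroup.relIndex_mul_relIndex T (S : Subgroup G) Y0 hTS (hSC.trans h))
    have h2 : T.relIndex (S : Subgroup G) ∣ Nat.card (S : Subgroup G) := Subgroup.relIndex_dvd_card _ _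
    obtain ⟨k, hk⟩ := S.2.exists_card_eq
    rw [hk] at h2
    exact Subgroup.relIndex_eq_one.mp (Nat.eq_one_of_dvd_coprimes
      ((Nat.coprime_two_left.mpr hY0odd).pow_left k) h2 h1)
  set π := QuotientGroup.mk' Y0 with hπ
  have hCbar : C.map π ≠ ⊥ := by
    rw [Ne, Subgroup.map_eq_bot_iff, hπ, QuotientGroup.ker_mk']
    exact hCY0
  haveI : (C.map π).Normal := Subgroup.Normal.map inferInstance π (QuotientGroup.mk'_surjective _)
  obtain ⟨K, hKn, hKC, hK1, hKmin⟩ := CfsgLib.exists_minimal_normal hCbar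
  haveI := hKn
  haveI : Group.IsSolvable (G ⧸ Y0) := Group.isSolvable_of_surjective (f := π) (QuotientGroup.mk'_surjective _)
  obtain ⟨hKab, p, hp, hKp⟩ := CfsgLib.minimal_normal_elementary hK1
    (Group.isSolvable_of_isSolvable_injective (f := K.subtype) K.subtype_injective) hKmin
  haveI := Fact.mk hp
  set Y := K.comap π with hY
  haveI : Y.Normal := hKn.comap _
  have hY0Y : Y0 ≤ Y := fun y hy => by
    rw [hY, Subgroup.mem_comap, hπ, QuotientGroup.mk'_apply, (QuotientGroup.eq_one_iff y).mpr hy]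
    exact one_mem _
  have hYC : Y ≤ C := fun y hy => by
    obtain ⟨c, hc, hcy⟩ := hKC hy
    rw [hπ, QuotientGroup.mk'_eq_mk'] at hcy
    obtain ⟨w, hw, rfl⟩ := hcy
    exact mul_mem hc (hY0C hw)
  have hYne : ¬ Y ≤ Y0 := fun h => hK1 ((Subgroup.eq_bot_iff_forall _).mpr fun y hy => by
    obtain ⟨y, rfl⟩ := QuotientGroup.mk'_surjective Y0 y
    exact (QuotientGroup.eq_one_iff y).mpr (h hy))
  have hp2 : p = 2 := by
    by_contra hp2
    apply hYne
    refine hY0max ⟨inferInstance, hTY0.trans hY0Y, hYC, ?_⟩ hY0Y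
    rw [← Subgroup.relIndex_mul_relIndex T Y0 Y hTY0 hY0Y]
    refine hY0odd.mul ?_
    have hpg : IsPGroup p K := fun x => ⟨1, Subtype.ext (by simpa using hKp x x.2)⟩
    obtain ⟨k, hk⟩ := hpg.exists_card_eq
    have h : Y0.relIndex Y = Nat.card K := by
      have hk : (⊥ : Subgroup (G ⧸ Y0)).comap π = Y0 := by
        rw [MonoidHom.comap_bot, hπ, QuotientGroup.ker_mk']
      refine (congrArg (fun Z : Subgroup G => Z.relIndex Y) hk).symm.trans ?_
      rw [hY, Subgroup.relIndex_comap, Subgroup.map_comap_eq_self_of_surjective (QuotientGroup.mk'_surjective _),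
        Subgroup.relIndex_bot_left]
    rw [h, hk]
    exact (hp.odd_of_ne_two hp2).pow
  subst hp2
  have hYsq : ∀ a ∈ Y, a * a ∈ Y0 := fun a ha => by
    rw [← QuotientGroup.eq_one_iff, ← sq]
    exact hKp _ ha
  have hYcm : ∀ a ∈ Y, ∀ b ∈ Y, ⁅a, b⁆ ∈ Y0 := fun a ha b hb => by
    have h : π a * π b = π b * π a :=
      congrArg Subtype.val (hKab.is_comm.comm ⟨π a, ha⟩ ⟨π b, hb⟩)
    rw [← QuotientGroup.eq_one_iff]
    show π ⁅a, b⁆ = 1
    rw [map_commutatorElement, commutatorElement_eq_one_iff_mul_comm.mpr h]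
  -- a complement of `T` in `Y0`
  set TY := T.subgroupOf Y0 with hTY
  haveI : TY.Normal := Subgroup.normal_subgroupOf
  obtain ⟨kT, hkT⟩ := hTp.exists_card_eq
  have hTYcard : Nat.card TY = 2 ^ kT := by
    rw [hTY, Nat.card_congr (Subgroup.subgroupOfEquivOfLe hTY0).toEquiv, hkT]
  obtain ⟨L', hL'⟩ := Subgroup.exists_right_complement'_of_coprime (N := TY) (by
    rw [hTYcard]; exact (Nat.coprime_two_left.mpr hY0odd).pow_left kT)
  set L := L'.map Y0.subtype with hLdef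
  have hLY0 : L ≤ Y0 := Subgroup.map_subtype_le _
  have hTL : ∀ y ∈ Y0, ∃ t ∈ T, ∃ l ∈ L, y = t * l := fun y hy => by
    obtain ⟨⟨t, l⟩, htl⟩ := hL'.2 ⟨y, hy⟩
    exact ⟨(t : Y0), t.2, (l : Y0), ⟨l, l.2, rfl⟩, (congrArg Subtype.val htl).symm⟩
  have hLodd : Odd (Nat.card L) := by
    rw [hLdef, ← Nat.card_congr (L'.equivMapOfInjective _ Y0.subtype_injective).toEquiv]
    have h := hL'.card_mul
    rw [← TY.card_mul_index] at h
    rw [Nat.eq_of_mul_eq_mul_left Nat.card_pos h]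
    exact hY0odd
  have hTLbot : ∀ x ∈ T, x ∈ L → x = 1 := fun x hxT hxL => by
    obtain ⟨k, hk⟩ := hTp ⟨x, hxT⟩
    have h1 : orderOf x ∣ Nat.card L := by
      rw [← Subgroup.orderOf_mk x hxL]; exact orderOf_dvd_natCard _
    exact orderOf_eq_one_iff.mp (Nat.eq_one_of_dvd_coprimes ((Nat.coprime_two_left.mpr hLodd).pow_left k)
      (orderOf_dvd_of_pow_eq_one (congrArg Subtype.val hk)) h1)
  set M := Subgroup.normalizer (L : Set G) with hM
  have hLM : L ≤ M := Subgroup.le_normalizer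
  have hfr : Y0 ⊔ M = ⊤ := by
    refine CfsgLib.hall_frattini
      (Group.isSolvable_of_isSolvable_injective (f := Y0.subtype) Y0.subtype_injective) hLY0 ?_
    have hri : L.relIndex Y0 = 2 ^ kT := by
      have h1 := L'.card_mul_index
      have h2 := hL'.card_mul
      rw [hTYcard, mul_comm, ← h1] at h2
      rw [hLdef, Subgroup.relIndex, Subgroup.subgroupOf,
        Subgroup.comap_map_eq_self_of_injective Y0.subtype_injective]
      exact (Nat.eq_of_mul_eq_mul_left Nat.card_pos h2).symm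
    rw [hri]
    exact (Nat.coprime_two_right.mpr hLodd).pow_right kT
  have hG : ∀ g : G, ∃ t ∈ T, ∃ m ∈ M, g = t * m := fun g => by
    obtain ⟨y, hy, m, hm, rfl⟩ := Subgroup.mem_sup_of_normal_left.mp (hfr ▸ Subgroup.mem_top g)
    obtain ⟨t, ht, l, hl, rfl⟩ := hTL y hy
    exact ⟨t, ht, l * m, mul_mem (hLM hl) hm, by rw [mul_assoc]⟩
  set YM := Y ⊓ M with hYM
  have hMY : M ≤ Subgroup.normalizer (Y : Set G) := by
    rw [Subgroup.normalizer_eq_top]; exact le_top
  have hMYM : M ≤ Subgroup.normalizer (YM : Set G) := fun m hm => Subgroup.mem_normalizer_iff.mpr fun y =>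
    ⟨fun hy => ⟨(Subgroup.mem_normalizer_iff.mp (hMY hm) y).mp hy.1, (show m * y * m⁻¹ ∈ M from mul_mem (mul_mem hm (show y ∈ M from hy.2)) (inv_mem hm))⟩,
      fun hy => ⟨(Subgroup.mem_normalizer_iff.mp (hMY hm) y).mpr hy.1,
        by simpa [mul_assoc] using mul_mem (mul_mem (inv_mem hm) (show _ ∈ M from hy.2)) hm⟩⟩
  obtain ⟨P, hP⟩ := exists_sylow_frattini (p := 2) (inf_le_right : YM ≤ M) hMYM
  set S0 := (P : Subgroup YM).map YM.subtype with hS0
  have hS0YM : S0 ≤ YM := Subgroup.map_subtype_le _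
  have hS0p : IsPGroup 2 S0 := P.2.map _
  have hTM_S0 : T ⊓ M ≤ S0 := by
    intro t ht
    have htY : t ∈ YM := ⟨hY0Y (hTY0 ht.1), ht.2⟩
    refine ⟨⟨t, htY⟩, ?_, rfl⟩
    haveI : (T.subgroupOf YM).Normal := Subgroup.normal_subgroupOf
    have hp' : IsPGroup 2 (T.subgroupOf YM) :=
      hTp.of_injective (YM.subtype.subgroupComap T) (fun a b hab =>
        Subtype.ext (Subtype.ext (congrArg (fun z : T => (z : G)) hab)))
    obtain ⟨Q, hQ⟩ := hp'.exists_le_sylow
    obtain ⟨g, hg⟩ := MulAction.exists_smul_eq YM Q P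
    rw [← hg, SetLike.mem_coe, Sylow.coe_subgroup_smul, Subgroup.mem_pointwise_smul_iff_inv_smul_mem,
      MulAut.inv_def, MulAut.smul_def, MulAut.conj_symm_apply]
    refine hQ ?_
    simpa using (inferInstance : (T.subgroupOf YM).Normal).conj_mem _ (show (⟨t, htY⟩ : YM) ∈ T.subgroupOf YM from ht.1) g⁻¹
  have hY0YM : ∀ y ∈ YM, ∃ s ∈ S0, ∃ l ∈ L, y = s * l := by
    intro y hy
    have hq : IsPGroup 2 (YM ⧸ Y0.subgroupOf YM) := by
      intro q
      obtain ⟨q, rfl⟩ := QuotientGroup.mk'_surjective _ q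
      refine ⟨1, ?_⟩
      rw [pow_one, sq, ← map_mul, ← MonoidHom.mem_ker, QuotientGroup.ker_mk', Subgroup.mem_subgroupOf]
      exact hYsq _ q.2.1
    obtain ⟨s, hs, w, hw, hsw⟩ := Subgroup.mem_sup_of_normal_right.mp
      ((sylow_sup_normal P (Y0.subgroupOf YM) hq).symm ▸ Subgroup.mem_top (⟨y, hy⟩ : YM))
    obtain ⟨t, ht, l, hl, htl⟩ := hTL (w : G) hw
    have htM : t ∈ M := by
      rw [show t = (w : G) * l⁻¹ by rw [htl]; group]
      exact mul_mem w.2.2 (inv_mem (hLM hl))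
    refine ⟨(s : G) * t, mul_mem ⟨s, hs, rfl⟩ (hTM_S0 ⟨ht, htM⟩), l, hl, ?_⟩
    rw [mul_assoc, ← htl]
    exact (congrArg Subtype.val hsw).symm
  set NM := M ⊓ Subgroup.normalizer (S0 : Set G) with hNM
  have hMdec : ∀ m ∈ M, ∃ k ∈ YM, ∃ g ∈ NM, m = k * g := fun m hm => by
    obtain ⟨k, hk, g, hgM, hg, he⟩ := hP m hm
    exact ⟨k, hk, g, ⟨hgM, hg⟩, he⟩
  have hS0T : ¬ S0 ≤ T := by
    intro h
    apply hYne
    intro y hy
    obtain ⟨t, ht, m, hm, rfl⟩ := hG y
    have hmY : m ∈ YM := ⟨by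
      have := mul_mem (inv_mem (hY0Y (hTY0 ht))) hy
      rwa [inv_mul_cancel_left] at this, hm⟩
    obtain ⟨s, hs, l, hl, rfl⟩ := hY0YM m hmY
    exact mul_mem (hTY0 ht) (mul_mem (hTY0 (h hs)) (hLY0 hl))
  have hS0C : ∀ s ∈ S0, ∀ v ∈ V, Commute s v := fun s hs v hv =>
    (Subgroup.mem_centralizer_iff.mp (hYC (hS0YM hs).1) v hv).symm
  -- elements of `T ⊓ M` centralise `L`
  have hTMC : ∀ t ∈ T ⊓ M, ∀ x ∈ L, Commute t x := by
    intro t ht x hx
    have h1 : ⁅t, x⁆ ∈ L := by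
      rw [commutatorElement_def]
      exact mul_mem ((Subgroup.mem_normalizer_iff.mp ht.2 x).mp hx) (inv_mem hx)
    have h2 : ⁅t, x⁆ ∈ T := by
      rw [show ⁅t, x⁆ = t * (x * t⁻¹ * x⁻¹) by rw [commutatorElement_def]; group]
      exact mul_mem ht.1 ((inferInstance : T.Normal).conj_mem _ (inv_mem ht.1) x)
    exact commutatorElement_eq_one_iff_mul_comm.mp (hTLbot _ h2 h1)
  have hS0L : ¬ ∀ s ∈ S0, ∀ x ∈ L, Commute s x := by
    intro h
    apply hS0T
    have hLnorm : L ≤ Subgroup.normalizer (S0 : Set G) := fun l hl => Subgroup.mem_normalizer_iff.mpr fun s => by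
      constructor
      · intro hs
        rw [show l * s * l⁻¹ = s by rw [← (h s hs l hl).eq, mul_inv_cancel_right]]; exact hs
      · intro hs
        rw [show s = l⁻¹ * (l * s * l⁻¹) * l by group,
          show l⁻¹ * (l * s * l⁻¹) * l = l * s * l⁻¹ by rw [mul_assoc, (h _ hs l hl).eq, inv_mul_cancel_left]]
        exact hs
    have hMS0 : M ≤ Subgroup.normalizer (S0 : Set G) := fun m hm => by
      obtain ⟨k, hk, g, hg, rfl⟩ := hMdec m hm
      obtain ⟨s, hs, l, hl, rfl⟩ := hY0YM k hk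
      exact mul_mem (mul_mem (Subgroup.le_normalizer hs) (hLnorm hl)) hg.2
    have hnorm : (T ⊔ S0).Normal := ⟨fun x hx g => by
      obtain ⟨t, ht, m, hm, rfl⟩ := hG g
      obtain ⟨a, ha, s, hs, rfl⟩ := Subgroup.mem_sup_of_normal_left.mp hx
      have h1 : m * s * m⁻¹ ∈ T ⊔ S0 :=
        Subgroup.mem_sup_right ((Subgroup.mem_normalizer_iff.mp (hMS0 hm) s).mp hs)
      have h2 : m * a * m⁻¹ ∈ T ⊔ S0 := Subgroup.mem_sup_left ((inferInstance : T.Normal).conj_mem a ha m)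
      rw [show t * m * (a * s) * (t * m)⁻¹ = t * ((m * a * m⁻¹) * (m * s * m⁻¹)) * t⁻¹ by group]
      exact mul_mem (mul_mem (Subgroup.mem_sup_left ht) (mul_mem h2 h1)) (inv_mem (Subgroup.mem_sup_left ht))⟩
    haveI := hnorm
    exact le_sup_right.trans (CfsgLib.le_pCore (hTp.to_sup_of_normal_left hS0p))
  -- a minimal invariant subgroup of `L`
  obtain ⟨X, ⟨hXL, hMX, hXne⟩, hXmin⟩ := (Set.toFinite {X : Subgroup G | X ≤ L ∧
      M ≤ Subgroup.normalizer (X : Set G) ∧ ¬ ∀ s ∈ S0, ∀ x ∈ X, Commute s x}).exists_minimal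
    ⟨L, le_rfl, le_rfl, hS0L⟩
  have hXodd : Odd (Nat.card X) := hLodd.of_dvd_nat (Subgroup.card_dvd_of_le hXL)
  -- the odd Hall subgroup
  haveI : Group.IsSolvable NM := Group.isSolvable_of_isSolvable_injective (f := NM.subtype) NM.subtype_injective
  obtain ⟨a, m, hm, hNMcard⟩ := Nat.exists_eq_two_pow_mul_odd (n := Nat.card NM) Nat.card_pos.ne'
  obtain ⟨⟨H', hH'⟩, -⟩ := CfsgLib.hall_main (G := NM) (m := m) (n := 2 ^ a) (by rw [hNMcard, mul_comm])
    ((Nat.coprime_two_right.mpr hm).pow_right a)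
  set H := H'.map NM.subtype with hH
  have hHNM : H ≤ NM := Subgroup.map_subtype_le _
  have hHodd : Odd (Nat.card H) := by
    rw [hH, ← Nat.card_congr (H'.equivMapOfInjective _ NM.subtype_injective).toEquiv, hH']; exact hm
  have hHC : ∀ g : G, ∃ h ∈ H, ∃ c ∈ C, g = h * c := by
    intro g
    set φ := (QuotientGroup.mk' C).comp NM.subtype with hφ
    have hφs : Function.Surjective φ := by
      intro q
      obtain ⟨q, rfl⟩ := QuotientGroup.mk'_surjective C q
      obtain ⟨t, ht, k, hk, rfl⟩ := hG q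
      obtain ⟨y, hy, g, hg, rfl⟩ := hMdec k hk
      refine ⟨⟨g, hg⟩, ?_⟩
      rw [hφ, MonoidHom.comp_apply, map_mul, map_mul]
      rw [show QuotientGroup.mk' C t = 1 from (QuotientGroup.eq_one_iff t).mpr (hTC ht),
        show QuotientGroup.mk' C y = 1 from (QuotientGroup.eq_one_iff y).mpr (hYC hy.1), one_mul, one_mul]
      rfl
    have htop : H'.map φ = ⊤ := by
      refine Subgroup.index_eq_one.mp (Nat.eq_one_of_dvd_coprimes ((Nat.coprime_two_left.mpr hCodd).pow_left a) ?_ ?_)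
      · refine (Subgroup.index_map_dvd H' hφs).trans (dvd_of_eq ?_)
        have h := H'.card_mul_index
        rw [hH', hNMcard, mul_comm (2 ^ a)] at h
        exact Nat.eq_of_mul_eq_mul_left hm.pos h
      · rw [Subgroup.index_eq_card C]
        exact Subgroup.index_dvd_card _
    obtain ⟨h, hh, hhg⟩ := (htop.symm ▸ Subgroup.mem_top (QuotientGroup.mk' C g) : QuotientGroup.mk' C g ∈ H'.map φ)
    rw [hφ, MonoidHom.comp_apply, QuotientGroup.mk'_eq_mk'] at hhg
    obtain ⟨c, hc, rfl⟩ := hhg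
    exact ⟨(h : G), ⟨h, hh, rfl⟩, c, hc, rfl⟩
  refine core_contra (V := V) (T := T) (M := M) (X := X) (S0 := S0) (H := H) hn hVcard hV hTp
    hTV (CfsgLib.centralizer_pCore_le Nat.prime_two hO) ?_ hMX (hXL.trans hLM) hXodd
    (fun x hx v hv => (Subgroup.mem_centralizer_iff.mp (hY0C (hLY0 (hXL hx))) v hv).symm) hS0p
    (hS0YM.trans inf_le_right) hS0C (hHNM.trans inf_le_left) (hHNM.trans inf_le_right) hHodd ?_ ?_ ?_ hXne ?_
    (Group.isSolvable_of_isSolvable_injective (f := X.subtype) X.subtype_injective)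
  · rw [Subgroup.normalizer_eq_top]; exact le_top
  · intro u hu v hv hu1 hv1
    obtain ⟨g, hg⟩ := isConj_iff.mp (hconj u v hu1 ((hV u).mp hu) hv1 ((hV v).mp hv))
    obtain ⟨h, hh, c, hc, rfl⟩ := hHC g
    refine ⟨h, hh, ?_⟩
    rw [← hg, show h * c * u * (h * c)⁻¹ = h * (c * u * c⁻¹) * h⁻¹ by group,
      ← Subgroup.mem_centralizer_iff.mp hc u hu, mul_inv_cancel_right]
  · intro s hs x hx
    have hsY := hS0YM hs
    obtain ⟨t, ht, l, hl, htl⟩ := hTL _ (hYsq s hsY.1)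
    have hl1 : l = 1 := by
      have hlS : l ∈ S0 := by
        have htM : t ∈ M := by
          rw [show t = s * s * l⁻¹ by rw [htl]; group]
          exact mul_mem (mul_mem hsY.2 hsY.2) (inv_mem (hLM hl))
        rw [show l = t⁻¹ * (s * s) by rw [htl]; group]
        exact mul_mem (inv_mem (hTM_S0 ⟨ht, htM⟩)) (mul_mem hs hs)
      exact orderOf_eq_one_iff.mp (Nat.eq_one_of_dvd_coprimes (coprime_two_odd hS0p hLodd hlS hl) dvd_rfl dvd_rfl)
    rw [hl1, mul_one] at htl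
    rw [htl]
    exact hTMC t ⟨ht, htl ▸ mul_mem hsY.2 hsY.2⟩ x (hXL hx)
  · intro s hs t ht x hx
    have hsY := hS0YM hs
    have htY := hS0YM ht
    obtain ⟨w, hw, l, hl, hwl⟩ := hTL _ (hYcm s hsY.1 t htY.1)
    have hcM : ⁅s, t⁆ ∈ M := mul_mem (mul_mem (mul_mem hsY.2 htY.2) (inv_mem hsY.2)) (inv_mem htY.2)
    have hl1 : l = 1 := by
      have hlS : l ∈ S0 := by
        have hwM : w ∈ M := by
          rw [show w = ⁅s, t⁆ * l⁻¹ by rw [hwl]; group]
          exact mul_mem hcM (inv_mem (hLM hl))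
        rw [show l = w⁻¹ * ⁅s, t⁆ by rw [hwl]; group]
        exact mul_mem (inv_mem (hTM_S0 ⟨hw, hwM⟩))
          (mul_mem (mul_mem (mul_mem hs ht) (inv_mem hs)) (inv_mem ht))
      exact orderOf_eq_one_iff.mp (Nat.eq_one_of_dvd_coprimes (coprime_two_odd hS0p hLodd hlS hl) dvd_rfl dvd_rfl)
    rw [hl1, mul_one] at hwl
    rw [hwl] at hcM ⊢
    exact hTMC w ⟨hw, hcM⟩ x (hXL hx)
  · intro K hKX hKne hMK
    by_contra hK
    exact hKne (le_antisymm hKX (hXmin ⟨hKX.trans hXL, hMK, hK⟩ hKX))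

end CfsgLib.OneInvClass
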